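import Mathlib
import Cfsg.Agent.H18.Duality
import Cfsg.Agent.S5395

/-! An involution `x` with an extraspecial self-centralizing normal 2-subgroup `E` of its centralizer. -/

set_option autoImplicit false

namespace Cfsg.Agent.H18

variable {G : Type*} [Group G]

/-- `E` is extraspecial with centre `⟨x⟩`, self-centralizing and normal in `C(x)`. -/
structure SingPt (E : Subgroup G) (x : G) : Prop where
  xx : x * x = 1
  xne : x ≠ 1
  mem : x ∈ E
  ext : Cfsg.IsExtraspecial 2 ↥E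
  cent : ∀ y : G, (∀ w ∈ E, w * y = y * w) → y = 1 ∨ y = x
  comm_x : ∀ q ∈ E, q * x = x * q
  norm : ∀ a : G, a * x = x * a → ∀ q ∈ E, a * q * a⁻¹ ∈ E

/-- `E` contains every normal 2-subgroup of `C(x)`. -/
def HasCore (E : Subgroup G) (x : G) : Prop :=
  ∀ K : Subgroup G, (∀ k ∈ K, k * x = x * k) → IsPGroup 2 ↥K →
    (∀ a : G, a * x = x * a → ∀ k ∈ K, a * k * a⁻¹ ∈ K) → K ≤ E

variable {E : Subgroup G} {x : G}

lemma mem_zpowers_iff_pair (hx : x * x = 1) (y : G) :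
    y ∈ Subgroup.zpowers x ↔ y = 1 ∨ y = x := by
  constructor
  · rintro ⟨n, rfl⟩
    rcases Int.even_or_odd n with ⟨k, rfl⟩ | ⟨k, rfl⟩
    · left
      show x ^ (k + k) = 1
      rw [← two_mul, zpow_mul, zpow_two, hx, one_zpow]
    · right
      show x ^ (2 * k + 1) = x
      rw [zpow_add_one, zpow_mul, zpow_two, hx, one_zpow, one_mul]
  · rintro (rfl | rfl)
    · exact one_mem _
    · exact Subgroup.mem_zpowers _

namespace SingPt

lemma pair (h : SingPt E x) {y : G} (hy : y ∈ Subgroup.zpowers x) : y = 1 ∨ y = x :=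
  (mem_zpowers_iff_pair h.xx y).mp hy

lemma x_inv (h : SingPt E x) : x⁻¹ = x := inv_eq_of_mul_eq_one_right h.xx

lemma zp_le (h : SingPt E x) : Subgroup.zpowers x ≤ E := Subgroup.zpowers_le.mpr h.mem

lemma x_central (h : SingPt E x) {q c : G} (hq : q ∈ E) (hc : c ∈ Subgroup.zpowers x) :
    q * c = c * q := by
  rcases h.pair hc with rfl | rfl
  · simp
  · exact h.comm_x q hq

lemma mem_of_map_center (h : SingPt E x) {w : ↥E} (hw : w ∈ Subgroup.center ↥E) :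
    (w : G) ∈ Subgroup.zpowers x :=
  (mem_zpowers_iff_pair h.xx _).mpr
    (h.cent w fun v hv => congrArg Subtype.val (Subgroup.mem_center_iff.mp hw ⟨v, hv⟩))

lemma center_iff (h : SingPt E x) (w : ↥E) :
    w ∈ Subgroup.center ↥E ↔ (w : G) ∈ Subgroup.zpowers x := by
  refine ⟨h.mem_of_map_center, fun hw => Subgroup.mem_center_iff.mpr fun v => Subtype.ext ?_⟩
  exact h.x_central v.2 hw

lemma comm (h : SingPt E x) {a b : G} (ha : a ∈ E) (hb : b ∈ E) :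
    a * b * a⁻¹ * b⁻¹ ∈ Subgroup.zpowers x :=
  h.mem_of_map_center (commutator_mem_center h.ext ⟨a, ha⟩ ⟨b, hb⟩)

lemma sq (h : SingPt E x) {a : G} (ha : a ∈ E) : a * a ∈ Subgroup.zpowers x := by
  refine (mem_zpowers_iff_pair h.xx _).mpr (h.cent _ fun b hb => ?_)
  set c := a * b * a⁻¹ * b⁻¹ with hc
  have hcx : c ∈ Subgroup.zpowers x := h.comm ha hb
  have hcc : c * c = 1 := by
    rcases h.pair hcx with he | he <;> simp [he, h.xx]
  have h1 : a * (a * b * a⁻¹) * a⁻¹ = c * (c * b) := by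
    have e : a * b * a⁻¹ = c * b := by rw [hc]; group
    calc a * (a * b * a⁻¹) * a⁻¹ = (a * c) * (b * a⁻¹) := by rw [e]; group
      _ = (c * a) * (b * a⁻¹) := by rw [h.x_central ha hcx]
      _ = c * (a * b * a⁻¹) := by group
      _ = c * (c * b) := by rw [e]
  rw [← mul_assoc c, hcc, one_mul] at h1
  calc b * (a * a) = a * (a * b * a⁻¹) * a⁻¹ * (a * a) := by rw [h1]
    _ = a * a * b := by group

lemma sq_eq_of_coset' (h : SingPt E x) {a b : G} (ha : a ∈ E) (hab : a⁻¹ * b ∈ Subgroup.zpowers x) :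
    b * b = a * a := by
  set t := a⁻¹ * b with ht
  have hb : b = a * t := by rw [ht]; group
  have htt : t * t = 1 := by rcases h.pair hab with he | he <;> simp [he, h.xx]
  calc b * b = a * (t * a) * t := by rw [hb]; group
    _ = a * (a * t) * t := by rw [h.x_central ha hab]
    _ = a * a * (t * t) := by group
    _ = a * a := by rw [htt, mul_one]

lemma central_zp_mul' (h : SingPt E x) {a t : G} (ha : a * x = x * a) (ht : t ∈ Subgroup.zpowers x) :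
    a * t * a⁻¹ = t := by
  rcases h.pair ht with rfl | rfl
  · simp
  · rw [ha, mul_inv_cancel_right]

/-- An element centralizing `E` modulo `⟨x⟩` lies in `E`. -/
lemma mem_of_disp [Finite G] (h : SingPt E x) {a : G} (ha : a * x = x * a)
    (hd : ∀ q ∈ E, q⁻¹ * (a * q * a⁻¹) ∈ Subgroup.zpowers x) : a ∈ E := by
  have ha' : a⁻¹ * x = x * a⁻¹ := by
    rw [inv_mul_eq_iff_eq_mul, ← mul_assoc, ha, mul_inv_cancel_right]
  let φ : ↥E ≃* ↥E :=
    { toFun := fun q => ⟨a * q * a⁻¹, h.norm a ha q q.2⟩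
      invFun := fun q => ⟨a⁻¹ * q * a, by simpa using h.norm a⁻¹ ha' q q.2⟩
      left_inv := fun q => Subtype.ext (by simp [mul_assoc])
      right_inv := fun q => Subtype.ext (by simp [mul_assoc])
      map_mul' := fun p q => Subtype.ext (by simp [mul_assoc]) }
  obtain ⟨g, hg⟩ := Cfsg.Agent.S5395.result h.ext φ fun q => by
    rw [h.center_iff]
    show a * q * a⁻¹ * (q : G)⁻¹ ∈ _
    have h1 := hd q q.2
    have : a * q * a⁻¹ * (q : G)⁻¹ = (q : G) * ((q : G)⁻¹ * (a * q * a⁻¹)) * (q : G)⁻¹ := by group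
    rw [this, h.x_central q.2 h1, mul_inv_cancel_right]
    exact h1
  have hc : ∀ w ∈ E, w * (a⁻¹ * (g : G)) = a⁻¹ * (g : G) * w := by
    intro w hw
    have h1 : a * w * a⁻¹ = (g : G) * w * (g : G)⁻¹ := congrArg Subtype.val (hg ⟨w, hw⟩)
    calc w * (a⁻¹ * (g : G)) = a⁻¹ * (a * w * a⁻¹) * g := by group
      _ = a⁻¹ * ((g : G) * w * (g : G)⁻¹) * g := by rw [h1]
      _ = a⁻¹ * (g : G) * w := by group
  rcases h.cent _ hc with he | he
  · rw [inv_mul_eq_one] at he; rw [he]; exact g.2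
  · rw [inv_mul_eq_iff_eq_mul] at he
    have : a = (g : G) * x⁻¹ := by rw [he]; group
    rw [this]; exact E.mul_mem g.2 (E.inv_mem h.mem)

lemma centralizer_subgroupOf (h : SingPt E x) (H : Subgroup G) (hH : H ≤ E) :
    (E ⊓ Subgroup.centralizer (H : Set G)).subgroupOf E =
      Subgroup.centralizer ((H.subgroupOf E : Subgroup ↥E) : Set ↥E) := by
  have := h.xne
  ext q
  simp only [Subgroup.mem_subgroupOf, Subgroup.mem_inf, q.2, true_and, Subgroup.mem_centralizer_iff]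
  exact ⟨fun hq w hw => Subtype.ext (hq w hw), fun hq w hw => congrArg Subtype.val (hq ⟨w, hH hw⟩ hw)⟩

lemma center_le_subgroupOf (h : SingPt E x) {H : Subgroup G} (hxH : x ∈ H) :
    Subgroup.center ↥E ≤ H.subgroupOf E := fun _ hw =>
  Subgroup.zpowers_le.mpr hxH (h.mem_of_map_center hw)

/-- `|H| |C_E(H)| = 2 |E|`. -/
lemma card_mul [Finite G] (h : SingPt E x) (H : Subgroup G) (hH : H ≤ E) (hxH : x ∈ H) :
    Nat.card H * Nat.card (E ⊓ Subgroup.centralizer (H : Set G) : Subgroup G) = 2 * Nat.card E := by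
  have h1 := card_mul_card_centralizer h.ext (H.subgroupOf E) (h.center_le_subgroupOf hxH)
  rwa [← h.centralizer_subgroupOf H hH, Nat.card_congr (Subgroup.subgroupOfEquivOfLe hH).toEquiv,
    Nat.card_congr (Subgroup.subgroupOfEquivOfLe (inf_le_left :
      E ⊓ Subgroup.centralizer (H : Set G) ≤ E)).toEquiv] at h1

/-- `C_E(C_E(H)) = H`. -/
lemma double [Finite G] (h : SingPt E x) (H : Subgroup G) (hH : H ≤ E) (hxH : x ∈ H) :
    E ⊓ Subgroup.centralizer ((E ⊓ Subgroup.centralizer (H : Set G) : Subgroup G) : Set G) = H := by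
  have h1 := centralizer_centralizer h.ext (H.subgroupOf E) (h.center_le_subgroupOf hxH)
  rw [← h.centralizer_subgroupOf H hH, ← h.centralizer_subgroupOf _ inf_le_left,
    Subgroup.subgroupOf_inj] at h1
  simpa [inf_eq_left.mpr hH] using h1

lemma comm_set (h : SingPt E x) (S : Set G) : x ∈ Subgroup.centralizer S → x ∈ E ⊓ Subgroup.centralizer S :=
  fun hs => ⟨h.mem, hs⟩

/-- The elements of `E` fixed by `a` modulo `N`, for `x ∈ N ≤ E`. -/
def fixSub (h : SingPt E x) (a : G) (N : Subgroup G) (hxN : x ∈ N) (hN : N ≤ E) : Subgroup G where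
  carrier := {v | v ∈ E ∧ v⁻¹ * (a * v * a⁻¹) ∈ N}
  one_mem' := ⟨E.one_mem, by simp⟩
  mul_mem' := fun {u v} hu hv => ⟨E.mul_mem hu.1 hv.1, by
    set c := u⁻¹ * (a * u * a⁻¹)
    have h1 : v⁻¹ * c * v⁻¹⁻¹ * c⁻¹ ∈ N :=
      Subgroup.zpowers_le.mpr hxN (h.comm (E.inv_mem hv.1) (hN hu.2))
    have h2 : (u * v)⁻¹ * (a * (u * v) * a⁻¹) =
        v⁻¹ * c * v⁻¹⁻¹ * c⁻¹ * c * (v⁻¹ * (a * v * a⁻¹)) := by
      simp only [c]; group
    rw [h2]
    exact N.mul_mem (N.mul_mem h1 hu.2) hv.2⟩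
  inv_mem' := fun {u} hu => ⟨E.inv_mem hu.1, by
    set c := u⁻¹ * (a * u * a⁻¹)
    have h1 : u * c⁻¹ * u⁻¹ * c⁻¹⁻¹ ∈ N :=
      Subgroup.zpowers_le.mpr hxN (h.comm hu.1 (E.inv_mem (hN hu.2)))
    have h2 : u⁻¹⁻¹ * (a * u⁻¹ * a⁻¹) = u * c⁻¹ * u⁻¹ * c⁻¹⁻¹ * c⁻¹ := by
      simp only [c]; group
    rw [h2]
    exact N.mul_mem h1 (N.inv_mem hu.2)⟩

lemma mem_fixSub (h : SingPt E x) {a v : G} {N : Subgroup G} {hxN : x ∈ N} {hN : N ≤ E} :
    v ∈ h.fixSub a N hxN hN ↔ v ∈ E ∧ v⁻¹ * (a * v * a⁻¹) ∈ N := Iff.rfl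

/-- If `a` fixes `S ⊆ E` modulo `⟨x⟩`, its displacement on `E` centralizes `S`. -/
lemma disp_centralizes (h : SingPt E x) {a : G} (ha : a * x = x * a) {S : Subgroup G} (hS : S ≤ E)
    (hfix : ∀ w ∈ S, w⁻¹ * (a * w * a⁻¹) ∈ Subgroup.zpowers x) {q : G} (hq : q ∈ E) :
    q⁻¹ * (a * q * a⁻¹) ∈ E ⊓ Subgroup.centralizer (S : Set G) := by
  refine ⟨E.mul_mem (E.inv_mem hq) (h.norm a ha q hq), fun w hw => ?_⟩
  set c := w⁻¹ * (a * w * a⁻¹) with hc
  have hcx : c ∈ Subgroup.zpowers x := hfix w hw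
  have hq' : a * q * a⁻¹ ∈ E := h.norm a ha q hq
  have hk : q * w * q⁻¹ * w⁻¹ ∈ Subgroup.zpowers x := h.comm hq (hS hw)
  set k := q * w * q⁻¹ * w⁻¹ with hkdef
  have hak : a * k * a⁻¹ = k := by
    rcases h.pair hk with he | he <;> rw [he]
    · simp
    · rw [ha, mul_inv_cancel_right]
  have e1 : (a * q * a⁻¹) * (w * c) * (a * q * a⁻¹)⁻¹ * (w * c)⁻¹ = k := by
    rw [← hak, hkdef, hc]; group
  have e2 : (a * q * a⁻¹) * (w * c) * (a * q * a⁻¹)⁻¹ * (w * c)⁻¹ =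
      (a * q * a⁻¹) * w * (a * q * a⁻¹)⁻¹ * w⁻¹ := by
    calc (a * q * a⁻¹) * (w * c) * (a * q * a⁻¹)⁻¹ * (w * c)⁻¹
        = (a * q * a⁻¹) * w * (c * (a * q * a⁻¹)⁻¹) * c⁻¹ * w⁻¹ := by group
      _ = (a * q * a⁻¹) * w * ((a * q * a⁻¹)⁻¹ * c) * c⁻¹ * w⁻¹ := by
          rw [← h.x_central (E.inv_mem hq') hcx]
      _ = _ := by group
  rw [e2, hkdef] at e1
  have e3 : (a * q * a⁻¹) * w * (a * q * a⁻¹)⁻¹ = q * w * q⁻¹ := by
    calc (a * q * a⁻¹) * w * (a * q * a⁻¹)⁻¹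
        = ((a * q * a⁻¹) * w * (a * q * a⁻¹)⁻¹ * w⁻¹) * w := by group
      _ = q * w * q⁻¹ := by rw [e1]; group
  calc w * (q⁻¹ * (a * q * a⁻¹))
      = q⁻¹ * (q * w * q⁻¹) * (a * q * a⁻¹) := by group
    _ = q⁻¹ * ((a * q * a⁻¹) * w * (a * q * a⁻¹)⁻¹) * (a * q * a⁻¹) := by rw [e3]
    _ = q⁻¹ * (a * q * a⁻¹) * w := by group

/-- Commutator of two automorphisms stabilizing a series `N ≤ L ≤ E`. -/
lemma disp_commutator (h : SingPt E x) {a b : G} (ha : a * x = x * a) (hb : b * x = x * b)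
    {L N : Subgroup G} (hNL : N ≤ L) (hL : L ≤ E) (hxN : x ∈ N)
    (hEa : ∀ q ∈ E, q⁻¹ * (a * q * a⁻¹) ∈ L) (hEb : ∀ q ∈ E, q⁻¹ * (b * q * b⁻¹) ∈ L)
    (hLa : ∀ l ∈ L, l⁻¹ * (a * l * a⁻¹) ∈ N) (hLb : ∀ l ∈ L, l⁻¹ * (b * l * b⁻¹) ∈ N)
    {p : G} (hp : p ∈ E) : p⁻¹ * ((a * b * a⁻¹ * b⁻¹) * p * (a * b * a⁻¹ * b⁻¹)⁻¹) ∈ N := by
  have ha' : a⁻¹ * x = x * a⁻¹ := by
    rw [inv_mul_eq_iff_eq_mul, ← mul_assoc, ha, mul_inv_cancel_right]
  have hb' : b⁻¹ * x = x * b⁻¹ := by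
    rw [inv_mul_eq_iff_eq_mul, ← mul_assoc, hb, mul_inv_cancel_right]
  set q := (b * a)⁻¹ * p * (b * a) with hqdef
  have hq : q ∈ E := by
    have h1 : (b * a)⁻¹ * x = x * (b * a)⁻¹ := by
      rw [mul_inv_rev, mul_assoc, hb', ← mul_assoc, ha', mul_assoc]
    simpa [hqdef] using h.norm (b * a)⁻¹ h1 p hp
  set u := q⁻¹ * (a * q * a⁻¹) with hu
  set w := q⁻¹ * (b * q * b⁻¹) with hw
  have hs : w⁻¹ * (a * w * a⁻¹) ∈ N := hLa w (hEb q hq)
  have ht : u⁻¹ * (b * u * b⁻¹) ∈ N := hLb u (hEa q hq)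
  set s := w⁻¹ * (a * w * a⁻¹) with hsd
  set t := u⁻¹ * (b * u * b⁻¹) with htd
  have hp' : p = q * (w * u * t) := by simp only [hu, hw, htd, hqdef]; group
  have hc : (a * b * a⁻¹ * b⁻¹) * p * (a * b * a⁻¹ * b⁻¹)⁻¹ = q * (u * w * s) := by
    simp only [hu, hw, hsd, hqdef]; group
  rw [hc, hp']
  have hk : u⁻¹ * w⁻¹ * u⁻¹⁻¹ * w⁻¹⁻¹ ∈ N :=
    Subgroup.zpowers_le.mpr hxN (h.comm (E.inv_mem (hL (hEa q hq))) (E.inv_mem (hL (hEb q hq))))
  have : (q * (w * u * t))⁻¹ * (q * (u * w * s)) = t⁻¹ * (u⁻¹ * w⁻¹ * u⁻¹⁻¹ * w⁻¹⁻¹) * s := by group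
  rw [this]
  exact N.mul_mem (N.mul_mem (N.inv_mem ht) hk) hs

end SingPt

/-- If any two elements of `K` outside `H ≤ K` differ by an element of `H`, then `|K| ≤ 2|H|`. -/
lemma card_le_two_mul [Finite G] {H K : Subgroup G}
    (h : ∀ a ∈ K, ∀ b ∈ K, a ∉ H → b ∉ H → a⁻¹ * b ∈ H) :
    Nat.card K ≤ 2 * Nat.card H := by
  classical
  by_cases hsub : K ≤ H
  · exact le_trans (Nat.card_le_card_of_injective _ (Subgroup.inclusion_injective hsub)) (by omega)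
  obtain ⟨a, ha, haH⟩ := SetLike.not_le_iff_exists.mp hsub
  let f : ↥K → ↥H ⊕ ↥H := fun k =>
    if hk : (k : G) ∈ H then Sum.inl ⟨k, hk⟩ else Sum.inr ⟨a⁻¹ * k, h a ha k k.2 haH hk⟩
  have hf : Function.Injective f := by
    intro k k' he
    simp only [f] at he
    split_ifs at he with h1 h2 h3
    · exact Subtype.ext (Subtype.mk.inj (Sum.inl.inj he))
    · exact Subtype.ext (mul_left_cancel (Subtype.mk.inj (Sum.inr.inj he)))
  have := Nat.card_le_card_of_injective f hf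
  rw [Nat.card_sum] at this
  omega

end Cfsg.Agent.H18
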