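import Mathlib

/-! Small counting tools for conjugation orbits and subgroups of index at most two. -/

set_option autoImplicit false

namespace Cfsg.Agent.H18

variable {G : Type*} [Group G] [Finite G]

/-- A subgroup of a finite group from a set closed under multiplication. -/
def subgroupOfMulClosed (S : Set G) (h1 : (1 : G) ∈ S) (hm : ∀ a ∈ S, ∀ b ∈ S, a * b ∈ S) : Subgroup G where
  carrier := S
  one_mem' := h1
  mul_mem' := fun {a b} ha hb => hm a ha b hb
  inv_mem' := fun {a} ha => by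
    have hpow : ∀ n : ℕ, a ^ n ∈ S := by
      intro n
      induction n with
      | zero => simpa using h1
      | succ k ih => rw [pow_succ]; exact hm _ ih _ ha
    have : a⁻¹ = a ^ (orderOf a - 1) := by
      rw [← mul_eq_one_iff_inv_eq, ← pow_succ', Nat.sub_add_cancel (orderOf_pos a), pow_orderOf_eq_one]
    rw [this]
    exact hpow _

lemma diff_mem_of_card_le {H K : Subgroup G} (hHK : H ≤ K) (hcard : Nat.card K ≤ 2 * Nat.card H)
    {a b : G} (ha : a ∈ K) (hb : b ∈ K) (haH : a ∉ H) (hbH : b ∉ H) : a⁻¹ * b ∈ H := by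
  by_contra hab
  let f : (↥H ⊕ ↥H) ⊕ Unit → ↥K := fun s => match s with
    | Sum.inl (Sum.inl k) => ⟨k, hHK k.2⟩
    | Sum.inl (Sum.inr k) => ⟨a * k, K.mul_mem ha (hHK k.2)⟩
    | Sum.inr _ => ⟨b, hb⟩
  have hf : Function.Injective f := by
    rintro ((k | k) | u) ((k' | k') | u') he <;> simp only [f, Subtype.mk.injEq] at he
    · rw [Subtype.ext he]
    · refine absurd ?_ haH
      have : a = (k : G) * (k' : G)⁻¹ := by rw [he]; group
      rw [this]; exact H.mul_mem k.2 (H.inv_mem k'.2)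
    · exact absurd (he ▸ k.2) hbH
    · refine absurd ?_ haH
      have : a = (k' : G) * (k : G)⁻¹ := by rw [← he]; group
      rw [this]; exact H.mul_mem k'.2 (H.inv_mem k.2)
    · rw [Subtype.ext (mul_left_cancel he)]
    · exact absurd (by rw [← he]; simpa [mul_assoc] using k.2) hab
    · exact absurd (he ▸ k'.2) hbH
    · exact absurd (by rw [he]; simpa [mul_assoc] using k'.2) hab
    · rfl
  have := Nat.card_le_card_of_injective f hf
  simp only [Nat.card_sum, Nat.card_unique] at this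
  omega

/-- The orbit of `s` under conjugation by `K`. -/
def conjOrb (K : Subgroup G) (s : G) : Set G := (fun k => k * s * k⁻¹) '' (K : Set G)

lemma mem_conjOrb_self (K : Subgroup G) (s : G) : s ∈ conjOrb K s := ⟨1, K.one_mem, by simp⟩

lemma mem_conjOrb {K : Subgroup G} {s t : G} : t ∈ conjOrb K s ↔ ∃ k ∈ K, k * s * k⁻¹ = t := Iff.rfl

lemma conjOrb_invariant {K : Subgroup G} {s t k : G} (hk : k ∈ K) (ht : t ∈ conjOrb K s) :
    k * t * k⁻¹ ∈ conjOrb K s := by
  obtain ⟨a, ha, rfl⟩ := ht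
  exact ⟨k * a, K.mul_mem hk ha, by simp [mul_assoc]⟩

/-- Orbit-stabilizer for conjugation. -/
lemma ncard_conjOrb_mul (K : Subgroup G) (s : G) :
    (conjOrb K s).ncard * Nat.card (K ⊓ Subgroup.centralizer ({s} : Set G) : Subgroup G) = Nat.card K := by
  letI : MulAction ↥K G := MulAction.compHom G (MulAut.conj.comp K.subtype)
  have horb : MulAction.orbit ↥K s = conjOrb K s := by
    ext t
    exact ⟨fun ⟨k, hk⟩ => ⟨k, k.2, hk⟩, fun ⟨k, hk, he⟩ => ⟨⟨k, hk⟩, he⟩⟩
  have hstab : MulAction.stabilizer ↥K s = (K ⊓ Subgroup.centralizer ({s} : Set G)).subgroupOf K := by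
    ext k
    rw [MulAction.mem_stabilizer_iff, Subgroup.mem_subgroupOf, Subgroup.mem_inf,
      Subgroup.mem_centralizer_singleton_iff]
    show (k : G) * s * (k : G)⁻¹ = s ↔ _
    rw [mul_inv_eq_iff_eq_mul]
    exact ⟨fun h => ⟨k.2, h⟩, fun h => h.2⟩
  rw [← horb, ← MulAction.index_stabilizer, hstab,
    ← Nat.card_congr (Subgroup.subgroupOfEquivOfLe (inf_le_left : K ⊓ Subgroup.centralizer ({s} : Set G) ≤ K)).toEquiv,
    Subgroup.index_mul_card]

lemma ncard_conjOrb_pow {p : ℕ} [Fact p.Prime] {K : Subgroup G} (hK : IsPGroup p ↥K) (s : G) :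
    ∃ j, (conjOrb K s).ncard = p ^ j := by
  obtain ⟨n, hn⟩ := IsPGroup.iff_card.mp hK
  have h : (conjOrb K s).ncard ∣ p ^ n := ⟨_, (by rw [ncard_conjOrb_mul, hn])⟩
  obtain ⟨j, -, hj⟩ := (Nat.dvd_prime_pow Fact.out).mp h
  exact ⟨j, hj⟩

/-- An invariant set all whose orbits have size divisible by `d` has size divisible by `d`. -/
lemma dvd_ncard_of_orbits (d : ℕ) (K : Subgroup G) (A : Set G)
    (hinv : ∀ k ∈ K, ∀ s ∈ A, k * s * k⁻¹ ∈ A) (hd : ∀ s ∈ A, d ∣ (conjOrb K s).ncard) :
    d ∣ A.ncard := by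
  induction hn : A.ncard using Nat.strong_induction_on generalizing A with
  | _ n ih =>
    subst hn
    rcases A.eq_empty_or_nonempty with rfl | ⟨s, hs⟩
    · simp
    have hsub : conjOrb K s ⊆ A := by
      rintro t ⟨k, hk, rfl⟩
      exact hinv k hk s hs
    have hlt : (A \ conjOrb K s).ncard < A.ncard :=
      Set.ncard_lt_ncard ⟨Set.sdiff_subset, fun h => (h hs).2 (mem_conjOrb_self K s)⟩
    rw [← Set.ncard_sdiff_add_ncard_of_subset hsub]
    refine dvd_add (ih _ hlt (A \ conjOrb K s) (fun k hk t ht => ⟨hinv k hk t ht.1, fun hmem => ht.2 ?_⟩)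
      (fun t ht => hd t ht.1) rfl) (hd s hs)
    have := conjOrb_invariant (K.inv_mem hk) hmem
    simpa [mul_assoc] using this

end Cfsg.Agent.H18
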