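import Mathlib
import Cfsg.Agent.H18.Singular.Basic
import Cfsg.Agent.H18.Singular.Util

/-! Two singular points `z`, `x` with `x ∈ Q_z` and `z ∉ Q_x`: the extraspecial groups have order 8 or 32. -/

set_option autoImplicit false

namespace Cfsg.Agent.H18

variable {G : Type*} [Group G]

/-- A would-be counterexample to the symmetry of orthogonality of singular involutions. -/
structure SingPair (F : Subgroup G) (z : G) (E : Subgroup G) (x : G) : Prop where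
  hF : SingPt F z
  hE : SingPt E x
  hxF : x ∈ F
  hzE : z ∉ E
  hcard : Nat.card E = Nat.card F

variable {F E : Subgroup G} {z x : G}

namespace SingPair

lemma zx (h : SingPair F z E x) : z * x = x * z := (h.hF.comm_x x h.hxF).symm

lemma x_ne_z (h : SingPair F z E x) : x ≠ z := fun e => h.hzE (e ▸ h.hE.mem)

lemma zx_notE (h : SingPair F z E x) : z * x ∉ E := fun hm =>
  h.hzE (by simpa [mul_assoc, h.hE.xx] using E.mul_mem hm h.hE.mem)

/-- `P = C_F(x)`. -/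
def P (_h : SingPair F z E x) : Subgroup G := F ⊓ Subgroup.centralizer ({x} : Set G)

/-- `R = C_E(z)`. -/
def R (_h : SingPair F z E x) : Subgroup G := E ⊓ Subgroup.centralizer ({z} : Set G)

/-- The elements of `E` fixed by `z` modulo `⟨x⟩`. -/
def W (h : SingPair F z E x) : Subgroup G :=
  h.hE.fixSub z (Subgroup.zpowers x) (Subgroup.mem_zpowers x) h.hE.zp_le

/-- Generated by `x` and the displacements of `z` on `E`. -/
def J (_h : SingPair F z E x) : Subgroup G :=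
  Subgroup.closure ({c | ∃ q ∈ E, c = q⁻¹ * (z * q * z⁻¹)} ∪ {x})

/-- `L = C_E(R)`. -/
def L (h : SingPair F z E x) : Subgroup G := E ⊓ Subgroup.centralizer (h.R : Set G)

/-- `N = L ∩ R`. -/
def N (h : SingPair F z E x) : Subgroup G := h.L ⊓ h.R

lemma mem_P (h : SingPair F z E x) {p : G} : p ∈ h.P ↔ p ∈ F ∧ p * x = x * p := by
  rw [P, Subgroup.mem_inf, Subgroup.mem_centralizer_singleton_iff]

lemma mem_R (h : SingPair F z E x) {r : G} : r ∈ h.R ↔ r ∈ E ∧ r * z = z * r := by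
  rw [R, Subgroup.mem_inf, Subgroup.mem_centralizer_singleton_iff]

lemma x_mem_R (h : SingPair F z E x) : x ∈ h.R := h.mem_R.mpr ⟨h.hE.mem, h.zx.symm⟩

lemma x_mem_P (h : SingPair F z E x) : x ∈ h.P := h.mem_P.mpr ⟨h.hxF, rfl⟩

lemma z_mem_P (h : SingPair F z E x) : z ∈ h.P := h.mem_P.mpr ⟨h.hF.mem, h.zx⟩

lemma R_le (h : SingPair F z E x) : h.R ≤ E := inf_le_left

lemma W_le (h : SingPair F z E x) : h.W ≤ E := fun _ hw => hw.1

lemma R_le_W (h : SingPair F z E x) : h.R ≤ h.W := fun r hr =>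
  ⟨h.R_le hr, by
    rw [← (h.mem_R.mp hr).2, mul_inv_cancel_right, inv_mul_cancel]
    exact one_mem _⟩

lemma J_le (h : SingPair F z E x) : h.J ≤ E := by
  rw [J, Subgroup.closure_le]
  rintro c (⟨q, hq, rfl⟩ | rfl)
  · exact E.mul_mem (E.inv_mem hq) (h.hE.norm z h.zx q hq)
  · exact h.hE.mem

lemma x_mem_J (h : SingPair F z E x) : x ∈ h.J := Subgroup.subset_closure (Or.inr rfl)

lemma disp_mem_J (h : SingPair F z E x) {q : G} (hq : q ∈ E) : q⁻¹ * (z * q * z⁻¹) ∈ h.J :=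
  Subgroup.subset_closure (Or.inl ⟨q, hq, rfl⟩)

lemma z_inv (h : SingPair F z E x) : z⁻¹ = z := h.hF.x_inv

lemma disp_inverted (h : SingPair F z E x) (q : G) :
    z * (q⁻¹ * (z * q * z⁻¹)) * z⁻¹ = (q⁻¹ * (z * q * z⁻¹))⁻¹ := by
  rw [h.z_inv]
  simp only [mul_inv_rev, inv_inv, h.z_inv, mul_assoc, h.hF.xx, mul_one]

lemma J_le_W (h : SingPair F z E x) : h.J ≤ h.W := by
  rw [J, Subgroup.closure_le]
  rintro c (⟨q, hq, rfl⟩ | rfl)
  · refine ⟨E.mul_mem (E.inv_mem hq) (h.hE.norm z h.zx q hq), ?_⟩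
    rw [h.disp_inverted]
    exact h.hE.sq (E.inv_mem (E.mul_mem (E.inv_mem hq) (h.hE.norm z h.zx q hq)))
  · exact h.R_le_W h.x_mem_R

lemma x_mem_W (h : SingPair F z E x) : x ∈ h.W := h.R_le_W h.x_mem_R

lemma W_eq (h : SingPair F z E x) : E ⊓ Subgroup.centralizer (h.J : Set G) = h.W := by
  apply le_antisymm
  · rintro v ⟨hv, hvJ⟩
    refine ⟨hv, ?_⟩
    set v' := z * v * z⁻¹ with hv'
    refine (mem_zpowers_iff_pair h.hE.xx _).mpr (h.hE.cent _ fun p hp => ?_)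
    -- `p = z q z⁻¹` with `q ∈ E`
    set q := z⁻¹ * p * z with hqdef
    have hq : q ∈ E := by
      have := h.hE.norm z h.zx p hp
      rwa [hqdef, h.z_inv, show z * p * z = z * p * z⁻¹ by rw [h.z_inv]]
    have hpq : z * q * z⁻¹ = p := by rw [hqdef]; group
    set k := v * q * v⁻¹ * q⁻¹ with hk
    have hkz : z * k * z⁻¹ = k := by
      rcases h.hE.pair (h.hE.comm hv hq) with he | he <;> rw [hk, he]
      · simp
      · rw [h.zx, mul_inv_cancel_right]
    have hcv : (q⁻¹ * p) * v = v * (q⁻¹ * p) := by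
      have h1 := hvJ _ (h.disp_mem_J hq)
      rwa [hpq] at h1
    have e1 : v' * p * v'⁻¹ = k * p := by
      calc v' * p * v'⁻¹ = z * (k * q) * z⁻¹ := by rw [hv', ← hpq, hk]; group
        _ = (z * k * z⁻¹) * (z * q * z⁻¹) := by group
        _ = k * p := by rw [hkz, hpq]
    have e2 : v * p * v⁻¹ = k * p := by
      calc v * p * v⁻¹ = v * q * ((q⁻¹ * p) * v⁻¹) := by group
        _ = v * q * (v⁻¹ * ((v * (q⁻¹ * p)) * v⁻¹)) := by group
        _ = v * q * (v⁻¹ * (((q⁻¹ * p) * v) * v⁻¹)) := by rw [hcv]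
        _ = k * p := by rw [hk]; group
    calc p * (v⁻¹ * v') = v⁻¹ * (v * p * v⁻¹) * v' := by group
      _ = v⁻¹ * (v' * p * v'⁻¹) * v' := by rw [e1, e2]
      _ = v⁻¹ * v' * p := by group
  · intro w hw
    refine ⟨hw.1, fun u hu => ?_⟩
    have hle : h.J ≤ E ⊓ Subgroup.centralizer (h.W : Set G) := by
      rw [J, Subgroup.closure_le]
      rintro c (⟨q, hq, rfl⟩ | rfl)
      · exact h.hE.disp_centralizes h.zx h.W_le (fun v hv => hv.2) hq
      · exact ⟨h.hE.mem, fun v hv => h.hE.comm_x v (h.W_le hv)⟩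
    exact ((hle hu).2 w hw).symm

variable [Finite G]

lemma card_W_J (h : SingPair F z E x) : Nat.card h.J * Nat.card h.W = 2 * Nat.card E := by
  rw [← h.W_eq]; exact h.hE.card_mul _ h.J_le h.x_mem_J

lemma card_R_L (h : SingPair F z E x) : Nat.card h.R * Nat.card h.L = 2 * Nat.card E :=
  h.hE.card_mul _ h.R_le h.x_mem_R

lemma card_W_le (h : SingPair F z E x) : Nat.card h.W ≤ 2 * Nat.card h.R := by
  have key : ∀ w ∈ h.W, w ∉ h.R → z * w * z⁻¹ = w * x := by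
    intro w hw hwR
    rcases h.hE.pair hw.2 with he | he
    · refine absurd (h.mem_R.mpr ⟨h.W_le hw, ?_⟩) hwR
      rw [inv_mul_eq_one, eq_mul_inv_iff_mul_eq] at he
      exact he
    · rwa [inv_mul_eq_iff_eq_mul] at he
  refine card_le_two_mul fun a ha b hb haR hbR => h.mem_R.mpr ⟨E.mul_mem (E.inv_mem (h.W_le ha)) (h.W_le hb), ?_⟩
  have h1 : z * (a⁻¹ * b) * z⁻¹ = a⁻¹ * b := by
    calc z * (a⁻¹ * b) * z⁻¹ = (z * a * z⁻¹)⁻¹ * (z * b * z⁻¹) := by group
      _ = x⁻¹ * (a⁻¹ * b) * x := by rw [key a ha haR, key b hb hbR]; group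
      _ = a⁻¹ * b := by
          rw [mul_assoc, h.hE.comm_x _ (E.mul_mem (E.inv_mem (h.W_le ha)) (h.W_le hb))]; group
  exact (mul_inv_eq_iff_eq_mul.mp h1).symm

lemma L_le (h : SingPair F z E x) : h.L ≤ E := inf_le_left

lemma x_mem_L (h : SingPair F z E x) : x ∈ h.L :=
  ⟨h.hE.mem, fun v hv => h.hE.comm_x v (h.R_le hv)⟩

lemma x_mem_N (h : SingPair F z E x) : x ∈ h.N := ⟨h.x_mem_L, h.x_mem_R⟩

lemma N_le (h : SingPair F z E x) : h.N ≤ E := inf_le_left.trans h.L_le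

lemma J_le_L (h : SingPair F z E x) : h.J ≤ h.L := fun u hu =>
  ⟨h.J_le hu, fun r hr => by
    have h1 : r ∈ E ⊓ Subgroup.centralizer (h.J : Set G) := by rw [h.W_eq]; exact h.R_le_W hr
    exact (h1.2 u hu).symm⟩

lemma J_comm (h : SingPair F z E x) {a b : G} (ha : a ∈ h.J) (hb : b ∈ h.J) : a * b = b * a := by
  have h1 : b ∈ E ⊓ Subgroup.centralizer (h.J : Set G) := by rw [h.W_eq]; exact h.J_le_W hb
  exact h1.2 a ha

lemma J_inverted (h : SingPair F z E x) {u : G} (hu : u ∈ h.J) : z * u * z⁻¹ = u⁻¹ := by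
  have hu' := hu
  rw [J] at hu
  induction hu using Subgroup.closure_induction with
  | mem c hc =>
    rcases hc with ⟨q, -, rfl⟩ | rfl
    · exact h.disp_inverted q
    · rw [h.zx, mul_inv_cancel_right, h.hE.x_inv]
  | one => simp
  | mul a b ha hb iha ihb =>
    rw [← conj_mul, iha (by exact ha), ihb (by exact hb), mul_inv_rev]
    exact h.J_comm (h.J.inv_mem ha) (h.J.inv_mem hb)
  | inv a ha iha => rw [← conj_inv, iha (by exact ha), inv_inv]

lemma card_L_le (h : SingPair F z E x) : Nat.card h.L ≤ 2 * Nat.card h.J := by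
  have h1 := h.card_W_J
  have h2 := h.card_R_L
  have h3 := h.card_W_le
  have hR : 0 < Nat.card h.R := Nat.card_pos
  refine Nat.le_of_mul_le_mul_left ?_ hR
  calc Nat.card h.R * Nat.card h.L = Nat.card h.J * Nat.card h.W := by rw [h1, h2]
    _ ≤ Nat.card h.J * (2 * Nat.card h.R) := Nat.mul_le_mul_left _ h3
    _ = _ := by ring

lemma L_center (h : SingPair F z E x) {n v : G} (hn : n ∈ h.R) (hv : v ∈ h.L) : n * v = v * n :=
  hv.2 n hn

lemma L_le_R_of_comm (h : SingPair F z E x) (hc : ∀ a ∈ h.L, ∀ b ∈ h.L, a * b = b * a) : h.L ≤ h.R := by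
  intro a ha
  rw [← h.hE.double h.R h.R_le h.x_mem_R]
  exact ⟨h.L_le ha, fun b hb => hc b hb a ha⟩

lemma P_normE (h : SingPair F z E x) {p q : G} (hp : p ∈ h.P) (hq : q ∈ E) : p * q * p⁻¹ ∈ E :=
  h.hE.norm p (h.mem_P.mp hp).2 q hq

lemma P_comm_z (h : SingPair F z E x) {p : G} (hp : p ∈ h.P) : p * z = z * p :=
  h.hF.comm_x p (h.mem_P.mp hp).1

lemma card_P (h : SingPair F z E x) : 2 * Nat.card h.P = Nat.card F := by
  have hle : h.P ≤ F := inf_le_left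
  have key : ∀ a ∈ F, a ∉ h.P → a * x * a⁻¹ = z * x := by
    intro a ha haP
    rcases h.hF.pair (h.hF.comm ha h.hxF) with he | he
    · exact absurd (h.mem_P.mpr ⟨ha, mul_inv_eq_iff_eq_mul.mp (mul_inv_eq_one.mp he)⟩) haP
    · exact mul_inv_eq_iff_eq_mul.mp he
  have h1 : Nat.card F ≤ 2 * Nat.card h.P := by
    refine card_le_two_mul fun a ha b hb haP hbP => h.mem_P.mpr ⟨F.mul_mem (F.inv_mem ha) hb, ?_⟩
    calc a⁻¹ * b * x = a⁻¹ * (b * x * b⁻¹) * b := by group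
      _ = a⁻¹ * (a * x * a⁻¹) * b := by rw [key a ha haP, key b hb hbP]
      _ = x * (a⁻¹ * b) := by group
  obtain ⟨k, hk⟩ := Subgroup.card_dvd_of_le hle
  have hne : Nat.card F ≠ Nat.card h.P := by
    intro he
    have h2 : h.P = F := Subgroup.eq_of_le_of_card_ge hle he.le
    rcases h.hF.cent x (fun w hw => (h.mem_P.mp (h2.symm ▸ hw)).2) with he' | he'
    · exact h.hE.xne he'
    · exact h.x_ne_z he'
  have hpos : 0 < Nat.card h.P := Nat.card_pos
  have hpos' : 0 < Nat.card F := Nat.card_pos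
  have hk2 : k = 2 := by
    rcases k with _ | _ | _ | k
    · omega
    · simp at hk; omega
    · rfl
    · exfalso; rw [hk] at h1; nlinarith
  rw [hk, hk2, mul_comm]

lemma cent_P (h : SingPair F z E x) {d : G} (hd : d ∈ F) (hc : ∀ p ∈ h.P, p * d = d * p) :
    d = 1 ∨ d = z ∨ d = x ∨ d = z * x := by
  by_contra hne
  push Not at hne
  have hC : ∀ v, v ∈ F → (∀ p ∈ h.P, p * v = v * p) → v ∈ F ⊓ Subgroup.centralizer (h.P : Set G) :=
    fun v h1 h2 => ⟨h1, h2⟩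
  have hcardC : Nat.card (F ⊓ Subgroup.centralizer (h.P : Set G) : Subgroup G) = 4 := by
    have h1 := h.hF.card_mul h.P inf_le_left h.z_mem_P
    rw [← h.card_P] at h1
    have hpos : 0 < Nat.card h.P := Nat.card_pos
    exact Nat.eq_of_mul_eq_mul_left hpos (h1.trans (by ring))
  have hsub : ({1, z, x, z * x, d} : Set G) ⊆ (F ⊓ Subgroup.centralizer (h.P : Set G) : Subgroup G) := by
    have hz := hC z h.hF.mem fun p hp => h.P_comm_z hp
    have hx := hC x h.hxF fun p hp => (h.mem_P.mp hp).2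
    intro v hv
    simp only [Set.mem_insert_iff, Set.mem_singleton_iff] at hv
    rcases hv with rfl | rfl | rfl | rfl | rfl
    exacts [Subgroup.one_mem _, hz, hx, Subgroup.mul_mem _ hz hx, hC _ hd hc]
  have hzx1 : z * x ≠ 1 := fun he => h.x_ne_z (by rw [eq_inv_of_mul_eq_one_right he, h.z_inv])
  have h5 : ({1, z, x, z * x, d} : Set G).ncard = 5 := by
    rw [Set.ncard_insert_of_notMem, Set.ncard_insert_of_notMem, Set.ncard_insert_of_notMem,
      Set.ncard_insert_of_notMem, Set.ncard_singleton]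
    · simp [Ne.symm hne.2.2.2]
    · simp [h.hF.xne, Ne.symm hne.2.2.1]
    · simp [Ne.symm h.x_ne_z, h.hE.xne, Ne.symm hne.2.1]
    · simp [Ne.symm h.hF.xne, Ne.symm h.hE.xne, Ne.symm hzx1, Ne.symm hne.1]
  have := Set.ncard_le_ncard hsub
  rw [← Nat.card_coe_set_eq ((F ⊓ Subgroup.centralizer (h.P : Set G) : Subgroup G) : Set G)] at this
  change _ ≤ Nat.card (F ⊓ Subgroup.centralizer (h.P : Set G) : Subgroup G) at this
  omega

lemma inter_eq (h : SingPair F z E x) {d : G} (hdF : d ∈ F) (hdE : d ∈ E) : d ∈ Subgroup.zpowers x := by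
  refine (mem_zpowers_iff_pair h.hE.xx _).mpr ?_
  have hc : ∀ p ∈ h.P, p * d = d * p := by
    intro p hp
    rcases h.hF.pair (h.hF.comm (h.mem_P.mp hp).1 hdF) with he | he
    · exact mul_inv_eq_iff_eq_mul.mp (mul_inv_eq_one.mp he)
    · exact absurd (he ▸ E.mul_mem (h.P_normE hp hdE) (E.inv_mem hdE)) h.hzE
  rcases h.cent_P hdF hc with he | he | he | he
  · exact Or.inl he
  · exact absurd (he ▸ hdE) h.hzE
  · exact Or.inr he
  · exact absurd (he ▸ hdE) h.zx_notE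

/-- `P` fixes `R` modulo `⟨x⟩`. -/
lemma P_fix_R (h : SingPair F z E x) {p r : G} (hp : p ∈ h.P) (hr : r ∈ h.R) :
    r⁻¹ * (p * r * p⁻¹) ∈ Subgroup.zpowers x := by
  refine h.inter_eq ?_ (E.mul_mem (E.inv_mem (h.R_le hr)) (h.P_normE hp (h.R_le hr)))
  have hrz : r⁻¹ * z = z * r⁻¹ := by
    rw [inv_mul_eq_iff_eq_mul, ← mul_assoc, (h.mem_R.mp hr).2, mul_inv_cancel_right]
  simpa [mul_assoc] using F.mul_mem (h.hF.norm r⁻¹ hrz p (h.mem_P.mp hp).1) (F.inv_mem (h.mem_P.mp hp).1)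

/-- If all commutators of `P` move `E` only inside `⟨x⟩`, then `P` is abelian. -/
lemma P_comm_of_central (h : SingPair F z E x)
    (hd : ∀ a ∈ h.P, ∀ b ∈ h.P, ∀ p ∈ E,
      p⁻¹ * ((a * b * a⁻¹ * b⁻¹) * p * (a * b * a⁻¹ * b⁻¹)⁻¹) ∈ Subgroup.zpowers x) :
    ∀ a ∈ h.P, ∀ b ∈ h.P, a * b = b * a := by
  intro a ha b hb
  rcases h.hF.pair (h.hF.comm (h.mem_P.mp ha).1 (h.mem_P.mp hb).1) with he | he
  · exact mul_inv_eq_iff_eq_mul.mp (mul_inv_eq_one.mp he)
  · have hd' := hd a ha b hb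
    rw [he] at hd'
    exact absurd (h.hE.mem_of_disp h.zx hd') h.hzE

lemma card_F_le_of_comm (h : SingPair F z E x) (hc : ∀ a ∈ h.P, ∀ b ∈ h.P, a * b = b * a) :
    Nat.card F ≤ 8 := by
  have h1 := h.hF.card_mul h.P inf_le_left h.z_mem_P
  have hle : h.P ≤ F ⊓ Subgroup.centralizer (h.P : Set G) :=
    fun a ha => ⟨(h.mem_P.mp ha).1, fun b hb => hc b hb a ha⟩
  have h2 := Nat.card_le_card_of_injective _ (Subgroup.inclusion_injective hle)
  have h3 := h.card_P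
  have hpos : 0 < Nat.card h.P := Nat.card_pos
  nlinarith

lemma not_P_comm (h : SingPair F z E x) (hbig : 8 < Nat.card F) :
    ¬ ∀ a ∈ h.P, ∀ b ∈ h.P, a * b = b * a := fun hc => absurd (h.card_F_le_of_comm hc) (by omega)

lemma not_L_le_R (h : SingPair F z E x) (hbig : 8 < Nat.card F) : ¬ h.L ≤ h.R := by
  intro hle
  apply h.not_P_comm hbig
  apply h.P_comm_of_central
  intro a ha b hb p hp
  refine h.hE.disp_commutator (L := h.L) (N := Subgroup.zpowers x) (h.mem_P.mp ha).2 (h.mem_P.mp hb).2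
    (Subgroup.zpowers_le.mpr h.x_mem_L) h.L_le (Subgroup.mem_zpowers x) ?_ ?_ ?_ ?_ hp
  · exact fun q hq => h.hE.disp_centralizes (h.mem_P.mp ha).2 h.R_le (fun r hr => h.P_fix_R ha hr) hq
  · exact fun q hq => h.hE.disp_centralizes (h.mem_P.mp hb).2 h.R_le (fun r hr => h.P_fix_R hb hr) hq
  · exact fun l hl => h.P_fix_R ha (hle hl)
  · exact fun l hl => h.P_fix_R hb (hle hl)

lemma J_diff (h : SingPair F z E x) {a b : G} (ha : a ∈ h.J) (hb : b ∈ h.J) (haR : a ∉ h.R)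
    (hbR : b ∉ h.R) : a⁻¹ * b ∈ h.N :=
  ⟨h.J_le_L (h.J.mul_mem (h.J.inv_mem ha) hb),
    diff_mem_of_card_le h.R_le_W h.card_W_le (h.J_le_W ha) (h.J_le_W hb) haR hbR⟩

lemma exists_c (h : SingPair F z E x) (hbig : 8 < Nat.card F) : ∃ c ∈ h.J, c ∉ h.R := by
  by_contra hcon
  push Not at hcon
  apply h.not_L_le_R hbig
  apply h.L_le_R_of_comm
  intro a ha b hb
  by_cases haJ : a ∈ h.J
  · exact h.L_center (hcon a haJ) hb
  by_cases hbJ : b ∈ h.J
  · exact (h.L_center (hcon b hbJ) ha).symm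
  have hj := diff_mem_of_card_le h.J_le_L h.card_L_le ha hb haJ hbJ
  have h1 := h.L_center (hcon _ hj) ha
  have hb' : b = a * (a⁻¹ * b) := by group
  rw [hb']
  calc a * (a * (a⁻¹ * b)) = a * ((a⁻¹ * b) * a) := by rw [h1]
    _ = a * (a⁻¹ * b) * a := by group

lemma exists_l (h : SingPair F z E x) (hbig : 8 < Nat.card F) {c : G} (hc : c ∈ h.J) :
    ∃ l ∈ h.L, l ∉ h.N ∧ c⁻¹ * l ∉ h.N := by
  by_contra hcon
  push Not at hcon
  apply h.not_L_le_R hbig
  apply h.L_le_R_of_comm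
  have hcent : ∀ a ∈ h.L, c * a = a * c := by
    intro a ha
    by_cases haN : a ∈ h.N
    · exact (h.L_center haN.2 (h.J_le_L hc)).symm
    · have h1 := hcon a ha haN
      have ha' : a = c * (c⁻¹ * a) := by group
      rw [ha']
      calc c * (c * (c⁻¹ * a)) = c * ((c⁻¹ * a) * c) := by rw [h.L_center h1.2 (h.J_le_L hc)]
        _ = c * (c⁻¹ * a) * c := by group
  intro a ha b hb
  by_cases haN : a ∈ h.N
  · exact h.L_center haN.2 hb
  · have h1 := hcon a ha haN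
    have ha' : a = c * (c⁻¹ * a) := by group
    rw [ha']
    calc c * (c⁻¹ * a) * b = c * ((c⁻¹ * a) * b) := by group
      _ = c * (b * (c⁻¹ * a)) := by rw [h.L_center h1.2 hb]
      _ = (c * b) * (c⁻¹ * a) := by group
      _ = (b * c) * (c⁻¹ * a) := by rw [hcent b hb]
      _ = b * (c * (c⁻¹ * a)) := by group

lemma L_cases (h : SingPair F z E x) {c l v : G} (hc : c ∈ h.J) (hcR : c ∉ h.R) (hl : l ∈ h.L)
    (hlN : l ∉ h.N) (hlc : c⁻¹ * l ∉ h.N) (hv : v ∈ h.L) :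
    v ∈ h.N ∨ c⁻¹ * v ∈ h.N ∨ l⁻¹ * v ∈ h.N ∨ (l * c)⁻¹ * v ∈ h.N := by
  have hJc : ∀ u ∈ h.J, u ∈ h.N ∨ c⁻¹ * u ∈ h.N := by
    intro u hu
    by_cases huR : u ∈ h.R
    · exact Or.inl ⟨h.J_le_L hu, huR⟩
    · exact Or.inr (h.J_diff hc hu hcR huR)
  have hlJ : l ∉ h.J := fun hlJ => (hJc l hlJ).elim hlN hlc
  by_cases hvJ : v ∈ h.J
  · exact (hJc v hvJ).imp id Or.inl
  · rcases hJc _ (diff_mem_of_card_le h.J_le_L h.card_L_le hl hv hlJ hvJ) with h1 | h1
    · exact Or.inr (Or.inr (Or.inl h1))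
    · refine Or.inr (Or.inr (Or.inr ?_))
      simpa [mul_assoc] using h1

/-- Elements of `C(x)` fixing `R` modulo `⟨x⟩` and `c` modulo `N`. -/
def good (h : SingPair F z E x) (c : G) : Subgroup G :=
  subgroupOfMulClosed {a | a * x = x * a ∧ (∀ r ∈ h.R, r⁻¹ * (a * r * a⁻¹) ∈ Subgroup.zpowers x) ∧
      c⁻¹ * (a * c * a⁻¹) ∈ h.N}
    ⟨by simp, fun r _ => by simp, by simp⟩
    (by
      rintro a ⟨ha, haR, hac⟩ b ⟨hb, hbR, hbc⟩
      have hz : ∀ t ∈ Subgroup.zpowers x, a * t * a⁻¹ = t := by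
        intro t ht
        rcases h.hE.pair ht with rfl | rfl
        · simp
        · rw [ha, mul_inv_cancel_right]
      refine ⟨by rw [mul_assoc, hb, ← mul_assoc, ha, mul_assoc], fun r hr => ?_, ?_⟩
      · have : r⁻¹ * (a * b * r * (a * b)⁻¹) =
            (r⁻¹ * (a * r * a⁻¹)) * (a * (r⁻¹ * (b * r * b⁻¹)) * a⁻¹) := by group
        rw [this]
        exact Subgroup.mul_mem _ (haR r hr) (by rw [hz _ (hbR r hr)]; exact hbR r hr)
      · have : c⁻¹ * (a * b * c * (a * b)⁻¹) =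
            (c⁻¹ * (a * c * a⁻¹)) * (a * (c⁻¹ * (b * c * b⁻¹)) * a⁻¹) := by group
        rw [this]
        refine h.N.mul_mem hac ?_
        set n := c⁻¹ * (b * c * b⁻¹) with hn
        have : a * n * a⁻¹ = n * (n⁻¹ * (a * n * a⁻¹)) := by group
        rw [this]
        exact h.N.mul_mem hbc (Subgroup.zpowers_le.mpr h.x_mem_N (haR n hbc.2)))

lemma mem_good (h : SingPair F z E x) {c a : G} :
    a ∈ h.good c ↔ a * x = x * a ∧ (∀ r ∈ h.R, r⁻¹ * (a * r * a⁻¹) ∈ Subgroup.zpowers x) ∧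
      c⁻¹ * (a * c * a⁻¹) ∈ h.N := Iff.rfl

lemma good_conj_N (h : SingPair F z E x) {c a n : G} (ha : a ∈ h.good c) (hn : n ∈ h.N) :
    a * n * a⁻¹ ∈ h.N := by
  have : a * n * a⁻¹ = n * (n⁻¹ * (a * n * a⁻¹)) := by group
  rw [this]
  exact h.N.mul_mem hn (Subgroup.zpowers_le.mpr h.x_mem_N ((h.mem_good.mp ha).2.1 n hn.2))

lemma good_disp (h : SingPair F z E x) {c a q : G} (ha : a ∈ h.good c) (hq : q ∈ E) :
    q⁻¹ * (a * q * a⁻¹) ∈ h.L :=
  h.hE.disp_centralizes (h.mem_good.mp ha).1 h.R_le (h.mem_good.mp ha).2.1 hq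

lemma good_conj_L (h : SingPair F z E x) {c a v : G} (ha : a ∈ h.good c) (hv : v ∈ h.L) :
    a * v * a⁻¹ ∈ h.L := by
  have : a * v * a⁻¹ = v * (v⁻¹ * (a * v * a⁻¹)) := by group
  rw [this]
  exact h.L.mul_mem hv (h.good_disp ha (h.L_le hv))

/-- The elements of `good c` fixing `l` modulo `N`. -/
def fixL (h : SingPair F z E x) (c l : G) : Subgroup G :=
  subgroupOfMulClosed {a | a ∈ h.good c ∧ l⁻¹ * (a * l * a⁻¹) ∈ h.N}
    ⟨one_mem _, by simp⟩
    (by
      rintro a ⟨ha, hal⟩ b ⟨hb, hbl⟩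
      refine ⟨mul_mem ha hb, ?_⟩
      have : l⁻¹ * (a * b * l * (a * b)⁻¹) =
          (l⁻¹ * (a * l * a⁻¹)) * (a * (l⁻¹ * (b * l * b⁻¹)) * a⁻¹) := by group
      rw [this]
      exact h.N.mul_mem hal (h.good_conj_N ha hbl))

lemma mem_fixL (h : SingPair F z E x) {c l a : G} :
    a ∈ h.fixL c l ↔ a ∈ h.good c ∧ l⁻¹ * (a * l * a⁻¹) ∈ h.N := Iff.rfl

lemma good_l_cases (h : SingPair F z E x) {c l a : G} (hc : c ∈ h.J) (hcR : c ∉ h.R) (hl : l ∈ h.L)
    (hlN : l ∉ h.N) (hlc : c⁻¹ * l ∉ h.N) (ha : a ∈ h.good c) :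
    l⁻¹ * (a * l * a⁻¹) ∈ h.N ∨ (l * c)⁻¹ * (a * l * a⁻¹) ∈ h.N := by
  rcases h.L_cases hc hcR hl hlN hlc (h.good_conj_L ha hl) with h1 | h1 | h1 | h1
  · refine absurd ?_ hlN
    simpa [mul_assoc] using h.good_conj_N (inv_mem ha) h1
  · refine absurd ?_ hlc
    have h2 := h.good_conj_N (inv_mem ha) h1
    have h3 : c⁻¹ * (a⁻¹ * c * a) ∈ h.N := by simpa using (h.mem_good.mp (inv_mem ha)).2.2
    have : c⁻¹ * l = (c⁻¹ * (a⁻¹ * c * a)) * (a⁻¹ * (c⁻¹ * (a * l * a⁻¹)) * a⁻¹⁻¹) := by group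
    rw [this]
    exact h.N.mul_mem h3 h2
  · exact Or.inl h1
  · exact Or.inr h1

lemma fixL_diff (h : SingPair F z E x) {c l a b : G} (hc : c ∈ h.J) (hcR : c ∉ h.R) (hl : l ∈ h.L)
    (hlN : l ∉ h.N) (hlc : c⁻¹ * l ∉ h.N) (ha : a ∈ h.good c) (hb : b ∈ h.good c)
    (ha' : a ∉ h.fixL c l) (hb' : b ∉ h.fixL c l) : a⁻¹ * b ∈ h.fixL c l := by
  have h1 := (h.good_l_cases hc hcR hl hlN hlc ha).resolve_left fun h' => ha' ⟨ha, h'⟩
  have h2 := (h.good_l_cases hc hcR hl hlN hlc hb).resolve_left fun h' => hb' ⟨hb, h'⟩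
  refine ⟨mul_mem (inv_mem ha) hb, ?_⟩
  have h3 := h.good_conj_N (inv_mem ha) (h.N.mul_mem (h.N.inv_mem h1) h2)
  have : l⁻¹ * (a⁻¹ * b * l * (a⁻¹ * b)⁻¹) =
      a⁻¹ * (((l * c)⁻¹ * (a * l * a⁻¹))⁻¹ * ((l * c)⁻¹ * (b * l * b⁻¹))) * a⁻¹⁻¹ := by group
  rw [this]
  exact h3

lemma fix_L (h : SingPair F z E x) {c l a v : G} (hc : c ∈ h.J) (hcR : c ∉ h.R) (hl : l ∈ h.L)
    (hlN : l ∉ h.N) (hlc : c⁻¹ * l ∉ h.N) (ha : a ∈ h.fixL c l) (hv : v ∈ h.L) :
    v⁻¹ * (a * v * a⁻¹) ∈ h.N := by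
  suffices hm : v ∈ h.hE.fixSub a h.N h.x_mem_N h.N_le from hm.2
  have hn : ∀ n ∈ h.N, n ∈ h.hE.fixSub a h.N h.x_mem_N h.N_le := fun n hn =>
    ⟨h.N_le hn, h.N.mul_mem (h.N.inv_mem hn) (h.good_conj_N ha.1 hn)⟩
  have hc' : c ∈ h.hE.fixSub a h.N h.x_mem_N h.N_le := ⟨h.J_le hc, (h.mem_good.mp ha.1).2.2⟩
  have hl' : l ∈ h.hE.fixSub a h.N h.x_mem_N h.N_le := ⟨h.L_le hl, ha.2⟩
  rcases h.L_cases hc hcR hl hlN hlc hv with h1 | h1 | h1 | h1
  · exact hn v h1
  · simpa [← mul_assoc] using mul_mem hc' (hn _ h1)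
  · simpa [← mul_assoc] using mul_mem hl' (hn _ h1)
  · simpa [mul_assoc] using mul_mem (mul_mem hl' hc') (hn _ h1)

lemma P_conj_J (h : SingPair F z E x) {p u : G} (hp : p ∈ h.P) (hu : u ∈ h.J) : p * u * p⁻¹ ∈ h.J := by
  have hle : h.J.map (MulAut.conj p).toMonoidHom ≤ h.J := by
    rw [J, MonoidHom.map_closure, Subgroup.closure_le]
    rintro - ⟨c, ⟨q, hq, rfl⟩ | rfl, rfl⟩
    · show p * (q⁻¹ * (z * q * z⁻¹)) * p⁻¹ ∈ h.J
      have hpz := h.P_comm_z hp
      have hpz' : z⁻¹ * p⁻¹ = p⁻¹ * z⁻¹ := by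
        rw [← mul_inv_rev, hpz, mul_inv_rev]
      have : p * (q⁻¹ * (z * q * z⁻¹)) * p⁻¹ = (p * q * p⁻¹)⁻¹ * (z * (p * q * p⁻¹) * z⁻¹) := by
        calc p * (q⁻¹ * (z * q * z⁻¹)) * p⁻¹ = (p * q * p⁻¹)⁻¹ * ((p * z) * q * (z⁻¹ * p⁻¹)) := by group
          _ = (p * q * p⁻¹)⁻¹ * ((z * p) * q * (p⁻¹ * z⁻¹)) := by rw [hpz, hpz']
          _ = _ := by group
      rw [this]
      exact h.disp_mem_J (h.P_normE hp hq)
    · show p * c * p⁻¹ ∈ h.J
      rw [(h.mem_P.mp hp).2, mul_inv_cancel_right]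
      exact h.x_mem_J
  exact hle ⟨u, hu, rfl⟩

lemma P_le_good (h : SingPair F z E x) {c : G} (hc : c ∈ h.J) (hcR : c ∉ h.R) : h.P ≤ h.good c := by
  intro p hp
  refine ⟨(h.mem_P.mp hp).2, fun r hr => h.P_fix_R hp hr, h.J_diff hc (h.P_conj_J hp hc) hcR ?_⟩
  intro hR
  apply hcR
  have hpc := h.P_fix_R (h.P.inv_mem hp) hR
  have : c = p * c * p⁻¹ * ((p * c * p⁻¹)⁻¹ * (p⁻¹ * (p * c * p⁻¹) * p⁻¹⁻¹)) := by group
  rw [this]
  exact h.R.mul_mem hR (Subgroup.zpowers_le.mpr h.x_mem_R hpc)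

lemma fixL_comm (h : SingPair F z E x) {c l a b : G} (hc : c ∈ h.J) (hcR : c ∉ h.R) (hl : l ∈ h.L)
    (hlN : l ∉ h.N) (hlc : c⁻¹ * l ∉ h.N) (ha : a ∈ h.P ⊓ h.fixL c l) (hb : b ∈ h.P ⊓ h.fixL c l) :
    a * b = b * a := by
  rcases h.hF.pair (h.hF.comm (h.mem_P.mp ha.1).1 (h.mem_P.mp hb.1).1) with he | he
  · exact mul_inv_eq_iff_eq_mul.mp (mul_inv_eq_one.mp he)
  · exfalso
    have hle : h.J ≤ h.N := by
      rw [J, Subgroup.closure_le]
      rintro u (⟨q, hq, rfl⟩ | rfl)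
      · have hd := h.hE.disp_commutator (L := h.L) (N := h.N) (h.mem_P.mp ha.1).2 (h.mem_P.mp hb.1).2
          inf_le_left h.L_le h.x_mem_N (fun q hq => h.good_disp ha.2.1 hq)
          (fun q hq => h.good_disp hb.2.1 hq) (fun v hv => h.fix_L hc hcR hl hlN hlc ha.2 hv)
          (fun v hv => h.fix_L hc hcR hl hlN hlc hb.2 hv) hq
        rwa [he] at hd
      · exact h.x_mem_N
    exact hcR (hle hc).2

lemma card_P_le_fixL (h : SingPair F z E x) {c l : G} (hc : c ∈ h.J) (hcR : c ∉ h.R) (hl : l ∈ h.L)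
    (hlN : l ∉ h.N) (hlc : c⁻¹ * l ∉ h.N) :
    Nat.card h.P ≤ 2 * Nat.card (h.P ⊓ h.fixL c l : Subgroup G) :=
  card_le_two_mul fun a ha b hb ha' hb' =>
    ⟨h.P.mul_mem (h.P.inv_mem ha) hb, h.fixL_diff hc hcR hl hlN hlc (h.P_le_good hc hcR ha)
      (h.P_le_good hc hcR hb) (fun he => ha' ⟨ha, he⟩) (fun he => hb' ⟨hb, he⟩)⟩

lemma card_F (h : SingPair F z E x) : Nat.card F ≤ 8 ∨ Nat.card F = 32 := by
  haveI : Fact (Nat.Prime 2) := ⟨Nat.prime_two⟩
  by_cases hbig : Nat.card F ≤ 8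
  · exact Or.inl hbig
  rw [not_le] at hbig
  right
  obtain ⟨c, hc, hcR⟩ := h.exists_c hbig
  obtain ⟨l, hl, hlN, hlc⟩ := h.exists_l hbig hc
  set H := (h.P ⊓ h.fixL c l) ⊔ Subgroup.zpowers z with hH
  have hHF : H ≤ F := sup_le (inf_le_left.trans inf_le_left) (Subgroup.zpowers_le.mpr h.hF.mem)
  have hHc : H ≤ Subgroup.centralizer (H : Set G) := by
    rw [Subgroup.le_centralizer_iff]
    refine sup_le ?_ ?_
    · intro a ha
      have : H ≤ Subgroup.centralizer ({a} : Set G) :=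
        sup_le (fun b hb => Subgroup.mem_centralizer_singleton_iff.mpr (h.fixL_comm hc hcR hl hlN hlc hb ha))
          (Subgroup.zpowers_le.mpr (Subgroup.mem_centralizer_singleton_iff.mpr (h.P_comm_z ha.1).symm))
      exact fun b hb => Subgroup.mem_centralizer_singleton_iff.mp (this hb)
    · exact Subgroup.zpowers_le.mpr fun b hb => h.hF.comm_x b (hHF hb)
  have h1 := h.hF.card_mul H hHF (Subgroup.mem_sup_right (Subgroup.mem_zpowers z))
  have h2 : Nat.card H ≤ Nat.card (F ⊓ Subgroup.centralizer (H : Set G) : Subgroup G) :=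
    Nat.card_le_card_of_injective _ (Subgroup.inclusion_injective (le_inf hHF hHc))
  have h3 : Nat.card (h.P ⊓ h.fixL c l : Subgroup G) ≤ Nat.card H :=
    Nat.card_le_card_of_injective _ (Subgroup.inclusion_injective le_sup_left)
  have h4 := h.card_P_le_fixL hc hcR hl hlN hlc
  have h5 := h.card_P
  have h32 : Nat.card F ≤ 32 := by
    have : Nat.card H * Nat.card H ≤ 2 * Nat.card F := h1 ▸ Nat.mul_le_mul_left _ h2
    nlinarith
  obtain ⟨k, hk⟩ := IsPGroup.iff_card.mp h.hF.ext.1.1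
  rw [hk] at hbig h32 h5 ⊢
  have hk5 : k ≤ 5 := (Nat.pow_le_pow_iff_right (by norm_num : 1 < 2)).mp (h32.trans_eq (by norm_num))
  have hk4 : 4 ≤ k := by
    by_contra hlt
    have : 2 ^ k ≤ 2 ^ 3 := Nat.pow_le_pow_right (by norm_num) (by omega)
    omega
  interval_cases k
  · exfalso
    have hP8 : Nat.card h.P = 8 := by omega
    apply h.not_P_comm (by rw [hk]; norm_num)
    intro a ha b hb
    by_contra hab
    set K := h.P ⊓ Subgroup.centralizer ({a} : Set G) with hK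
    have hmem : ∀ v ∈ h.P, v * a = a * v → v ∈ K := fun v hv he =>
      ⟨hv, Subgroup.mem_centralizer_singleton_iff.mpr he⟩
    have hzK := hmem z h.z_mem_P (h.P_comm_z ha).symm
    have hxK := hmem x h.x_mem_P (h.mem_P.mp ha).2.symm
    have hzx1 : z * x ≠ 1 := fun he => h.x_ne_z (by rw [eq_inv_of_mul_eq_one_right he, h.z_inv])
    have hbz := h.P_comm_z hb
    have hbx := (h.mem_P.mp hb).2
    have ha1 : a ≠ 1 := fun e => hab (by simp [e])
    have haz : a ≠ z := fun e => hab (by rw [e]; exact hbz.symm)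
    have hax : a ≠ x := fun e => hab (by rw [e]; exact hbx.symm)
    have hazx : a ≠ z * x := fun e => hab (by
      rw [e, mul_assoc, ← hbx, ← mul_assoc, ← hbz, mul_assoc])
    have hsub : ({1, z, x, z * x, a} : Set G) ⊆ (K : Subgroup G) := by
      intro v hv
      simp only [Set.mem_insert_iff, Set.mem_singleton_iff] at hv
      rcases hv with rfl | rfl | rfl | rfl | rfl
      exacts [K.one_mem, hzK, hxK, K.mul_mem hzK hxK, hmem v ha rfl]
    have hge : ({1, z, x, z * x, a} : Set G).ncard = 5 := by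
      rw [Set.ncard_insert_of_notMem, Set.ncard_insert_of_notMem, Set.ncard_insert_of_notMem,
        Set.ncard_insert_of_notMem, Set.ncard_singleton]
      · simp [Ne.symm hazx]
      · simp [h.hF.xne, Ne.symm hax]
      · simp [Ne.symm h.x_ne_z, h.hE.xne, Ne.symm haz]
      · simp [Ne.symm h.hF.xne, Ne.symm h.hE.xne, Ne.symm hzx1, Ne.symm ha1]
    have h5' := Set.ncard_le_ncard hsub
    rw [← Nat.card_coe_set_eq (K : Set G), hge] at h5'
    change 5 ≤ Nat.card K at h5'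
    have hd := Subgroup.card_dvd_of_le (inf_le_left : K ≤ h.P)
    rw [hP8] at hd
    have hK8 : Nat.card K = 8 := by
      have := Nat.le_of_dvd (by norm_num) hd
      interval_cases hn : Nat.card K <;> omega
    have : K = h.P := Subgroup.eq_of_le_of_card_ge inf_le_left (by rw [hP8, hK8])
    have hb' : b ∈ K := this.symm ▸ hb
    exact hab (Subgroup.mem_centralizer_singleton_iff.mp hb'.2).symm
  · norm_num

/-- If `E` is the conjugate of `F` taking `z` to `x`, then `|F| ≤ 8`: an element of `N(⟨z, x⟩)` taking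
`z` to `x` would carry `P` into `R`. -/
lemma card_le_of_conj (h : SingPair F z E x) {g : G} (hgz : g * z * g⁻¹ = x)
    (hgF : ∀ q ∈ F, g * q * g⁻¹ ∈ E) : Nat.card F ≤ 8 := by
  by_contra hbig
  rw [not_le] at hbig
  obtain ⟨c, hc, hcR⟩ := h.exists_c hbig
  obtain ⟨l, hl, hlN, hlc⟩ := h.exists_l hbig hc
  obtain ⟨q, hq, hqx⟩ : ∃ q ∈ F, q * x * q⁻¹ = z * x := by
    by_contra hcon
    push Not at hcon
    rcases h.hF.cent x (fun w hw => by
      rcases h.hF.pair (h.hF.comm hw h.hxF) with he | he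
      · exact mul_inv_eq_iff_eq_mul.mp (mul_inv_eq_one.mp he)
      · exact absurd (mul_inv_eq_iff_eq_mul.mp he) (hcon w hw)) with he | he
    · exact h.hE.xne he
    · exact h.x_ne_z he
  have hcz : c * z * c⁻¹ = z * x := by
    rcases h.hE.pair (h.J_le_W hc).2 with he | he
    · refine absurd (h.mem_R.mpr ⟨h.J_le hc, ?_⟩) hcR
      rw [inv_mul_eq_one, eq_mul_inv_iff_mul_eq] at he
      exact he
    · have h1 : z * c = c * x * z := by
        rw [inv_mul_eq_iff_eq_mul] at he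
        exact mul_inv_eq_iff_eq_mul.mp he
      have h2 : c * z * x = z * c := by rw [h1, mul_assoc c z x, h.zx, ← mul_assoc]
      rw [mul_inv_eq_iff_eq_mul]
      calc c * z = c * z * x * x := by rw [mul_assoc _ x x, h.hE.xx, mul_one]
        _ = z * c * x := by rw [h2]
        _ = z * (x * c) := by rw [mul_assoc, h.hE.comm_x c (h.J_le hc)]
        _ = z * x * c := by rw [mul_assoc]
  set m := q * c with hm
  have hmz : m * z * m⁻¹ = x := by
    calc m * z * m⁻¹ = q * (c * z * c⁻¹) * q⁻¹ := by rw [hm]; group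
      _ = (q * z * q⁻¹) * (q * x * q⁻¹) := by rw [hcz]; group
      _ = x := by
          rw [hqx, h.hF.comm_x q hq, mul_inv_cancel_right, ← mul_assoc, h.hF.xx, one_mul]
  have hmx : m * x * m⁻¹ = z * x := by
    calc m * x * m⁻¹ = q * (c * x * c⁻¹) * q⁻¹ := by rw [hm]; group
      _ = z * x := by rw [h.hE.comm_x c (h.J_le hc), mul_inv_cancel_right, hqx]
  have hk : (g⁻¹ * m) * z = z * (g⁻¹ * m) := by
    calc (g⁻¹ * m) * z = g⁻¹ * (m * z * m⁻¹) * m := by group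
      _ = g⁻¹ * (g * z * g⁻¹) * m := by rw [hmz, hgz]
      _ = z * (g⁻¹ * m) := by group
  have hle : h.P.map (MulAut.conj m).toMonoidHom ≤ h.R := by
    rintro _ ⟨p, hp, rfl⟩
    show m * p * m⁻¹ ∈ h.R
    have h1 : m * p * m⁻¹ ∈ E := by
      have := hgF _ (h.hF.norm _ hk p (h.mem_P.mp hp).1)
      simpa [mul_assoc] using this
    refine h.mem_R.mpr ⟨h1, ?_⟩
    have e : (m * x * m⁻¹) * (m * z * m⁻¹) = z := by
      rw [hmx, hmz, mul_assoc, h.hE.xx, mul_one]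
    have hpzx : p * (x * z) = x * z * p := by
      rw [← mul_assoc, (h.mem_P.mp hp).2, mul_assoc, h.P_comm_z hp, ← mul_assoc]
    calc m * p * m⁻¹ * z = m * p * m⁻¹ * ((m * x * m⁻¹) * (m * z * m⁻¹)) := by rw [e]
      _ = m * (p * (x * z)) * m⁻¹ := by group
      _ = m * (x * z * p) * m⁻¹ := by rw [hpzx]
      _ = ((m * x * m⁻¹) * (m * z * m⁻¹)) * (m * p * m⁻¹) := by group
      _ = z * (m * p * m⁻¹) := by rw [e]
  have h1 := Nat.card_le_card_of_injective _ (Subgroup.inclusion_injective hle)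
  rw [Subgroup.card_map_of_injective (MulAut.conj m).injective] at h1
  have h2 := h.card_R_L
  have h3 := h.card_P
  rw [h.hcard] at h2
  have hc1 : c ≠ 1 := fun e => hcR (e ▸ one_mem _)
  have hcx : c ≠ x := fun e => hcR (e ▸ h.x_mem_R)
  have hl1 : l ≠ 1 := fun e => hlN (e ▸ one_mem _)
  have hlx : l ≠ x := fun e => hlN (e ▸ h.x_mem_N)
  have hlc' : l ≠ c := fun e => hlc (by rw [e, inv_mul_cancel]; exact one_mem _)
  have hlcx : l ≠ c * x := fun e => hlc (by rw [e, inv_mul_cancel_left]; exact h.x_mem_N)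
  have hcx1 : c * x ≠ 1 := fun e => hcx (by rw [eq_inv_of_mul_eq_one_left e, h.hE.x_inv])
  have hsub : ({1, x, c, c * x, l} : Set G) ⊆ (h.L : Subgroup G) := by
    intro v hv
    simp only [Set.mem_insert_iff, Set.mem_singleton_iff] at hv
    rcases hv with rfl | rfl | rfl | rfl | rfl
    exacts [Subgroup.one_mem _, h.x_mem_L, h.J_le_L hc, mul_mem (h.J_le_L hc) h.x_mem_L, hl]
  have h5 : ({1, x, c, c * x, l} : Set G).ncard = 5 := by
    rw [Set.ncard_insert_of_notMem, Set.ncard_insert_of_notMem, Set.ncard_insert_of_notMem,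
      Set.ncard_insert_of_notMem, Set.ncard_singleton]
    · simp [Ne.symm hlcx]
    · simp [h.hE.xne, Ne.symm hlc']
    · simp [Ne.symm hcx, hc1, Ne.symm hlx]
    · simp [Ne.symm h.hE.xne, Ne.symm hc1, Ne.symm hcx1, Ne.symm hl1]
  have h6 := Set.ncard_le_ncard hsub
  rw [← Nat.card_coe_set_eq (h.L : Set G), h5] at h6
  change 5 ≤ Nat.card h.L at h6
  nlinarith

end SingPair

end Cfsg.Agent.H18
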