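import Mathlib
import Cfsg.Agent.H18.Singular.Pair

/-! An element of odd order centralizing a singular point fixes an extraspecial group of order at most 8. -/

set_option autoImplicit false

namespace Cfsg.Agent.H18

variable {G : Type*} [Group G] [Finite G] {E : Subgroup G} {x : G}

namespace SingPt

/-- If an extraspecial `E` of order at most 8 contains a non-central involution, then odd-order elements of
`C(x)` centralize `E`. -/
lemma odd_centralizes (h : SingPt E x) (h8 : Nat.card E ≤ 8) {y : G} (hy : y ∈ E) (hyy : y * y = 1)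
    (hyZ : y ∉ Subgroup.zpowers x) {g : G} (hg : g * x = x * g) (hodd : Odd (orderOf g)) : g ∈ E := by
  refine h.mem_of_disp hg fun q hq => ?_
  by_contra hq1
  have hqZ : q ∉ Subgroup.zpowers x := fun hqZ => hq1 (by
    rw [h.central_zp_mul' hg hqZ, inv_mul_cancel]; exact one_mem _)
  set q1 := g * q * g⁻¹ with hq1d
  set q2 := g * q1 * g⁻¹ with hq2d
  have hq1E : q1 ∈ E := h.norm g hg q hq
  have hq2E : q2 ∈ E := h.norm g hg q1 hq1E
  have hconj : ∀ {u : G}, g * u * g⁻¹ ∈ Subgroup.zpowers x → u ∈ Subgroup.zpowers x := by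
    intro u hu
    have : g * u * g⁻¹ = u := by
      have h1 : u = g⁻¹ * (g * u * g⁻¹) * g := by group
      rcases h.pair hu with he | he
      · rw [he] at h1 ⊢; rw [h1]; group
      · rw [he] at h1 ⊢
        rw [h1, mul_assoc, ← hg]; group
    rwa [this] at hu
  -- the subgroup `⟨q⟩ Z`
  have hH4 : 4 ≤ Nat.card (Subgroup.zpowers x ⊔ Subgroup.zpowers q : Subgroup G) := by
    have h2 : Nat.card (Subgroup.zpowers x) = 2 := by
      rw [Nat.card_zpowers]
      exact orderOf_eq_prime (by rw [pow_two]; exact h.xx) h.xne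
    have hd := Subgroup.card_dvd_of_le (le_sup_left : Subgroup.zpowers x ≤ Subgroup.zpowers x ⊔ Subgroup.zpowers q)
    have hne : Nat.card (Subgroup.zpowers x ⊔ Subgroup.zpowers q : Subgroup G) ≠ Nat.card (Subgroup.zpowers x) := by
      intro he
      have := Subgroup.eq_of_le_of_card_ge (le_sup_left : Subgroup.zpowers x ≤ Subgroup.zpowers x ⊔ Subgroup.zpowers q) he.le
      exact hqZ (this.symm ▸ Subgroup.mem_sup_right (Subgroup.mem_zpowers q))
    obtain ⟨k, hk⟩ := hd
    have hpos : 0 < Nat.card (Subgroup.zpowers x ⊔ Subgroup.zpowers q : Subgroup G) := Nat.card_pos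
    rw [h2] at hk hne
    omega
  set H := Subgroup.zpowers x ⊔ Subgroup.zpowers q with hH
  have hHE : H ≤ E := sup_le h.zp_le (Subgroup.zpowers_le.mpr hq)
  have hHcases : ∀ u ∈ H, u ∈ Subgroup.zpowers x ∨ q⁻¹ * u ∈ Subgroup.zpowers x := by
    intro u hu
    have hK : H ≤ subgroupOfMulClosed {u | u ∈ E ∧ (u ∈ Subgroup.zpowers x ∨ q⁻¹ * u ∈ Subgroup.zpowers x)}
        ⟨E.one_mem, Or.inl (one_mem _)⟩ (by
          rintro a ⟨haE, ha⟩ b ⟨hbE, hb⟩
          refine ⟨E.mul_mem haE hbE, ?_⟩
          rcases ha with ha | ha <;> rcases hb with hb | hb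
          · exact Or.inl (mul_mem ha hb)
          · right
            rw [← mul_assoc, h.x_central (E.inv_mem hq) ha, mul_assoc]; exact mul_mem ha hb
          · right
            rw [← mul_assoc]; exact mul_mem ha hb
          · left
            have : a * b = (q * q) * ((q⁻¹ * a) * (q⁻¹ * b)) := by
              calc a * b = q * ((q⁻¹ * a) * q) * (q⁻¹ * b) := by group
                _ = q * (q * (q⁻¹ * a)) * (q⁻¹ * b) := by rw [h.x_central hq ha]
                _ = _ := by group
            rw [this]; exact mul_mem (h.sq hq) (mul_mem ha hb)) := by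
      refine sup_le (fun u hu => ⟨h.zp_le hu, Or.inl hu⟩) (Subgroup.zpowers_le.mpr ⟨hq, Or.inr ?_⟩)
      rw [inv_mul_cancel]; exact one_mem _
    exact (hK hu).2
  have hq1H : q1 ∉ H := fun hm => (hHcases q1 hm).elim (fun hm => hqZ (hconj hm)) hq1
  have hsq1 : q1 * q1 = q * q := by
    rw [hq1d, conj_mul, h.central_zp_mul' hg (h.sq hq)]
  -- `q2 ∉ H`
  have hq2H : q2 ∉ H := by
    intro hm
    rcases hHcases q2 hm with hm | hm
    · exact hqZ (hconj (hconj hm))
    · -- `g²` fixes `q` modulo the centre
      have hfix : ∀ n : ℕ, q⁻¹ * (g ^ (2 * n) * q * (g ^ (2 * n))⁻¹) ∈ Subgroup.zpowers x := by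
        intro n
        induction n with
        | zero => simp
        | succ k ih =>
          have hgx : (g * g) * x = x * (g * g) := by rw [mul_assoc, hg, ← mul_assoc, hg, mul_assoc]
          have : q⁻¹ * (g ^ (2 * (k + 1)) * q * (g ^ (2 * (k + 1)))⁻¹) =
              (q⁻¹ * q2) * ((g * g) * (q⁻¹ * (g ^ (2 * k) * q * (g ^ (2 * k))⁻¹)) * (g * g)⁻¹) := by
            rw [show 2 * (k + 1) = 2 + 2 * k by ring, pow_add, pow_two, hq2d, hq1d]; group
          rw [this, h.central_zp_mul' hgx ih]
          exact mul_mem hm ih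
      obtain ⟨m, hm'⟩ := hodd
      have hg1 : g ^ (2 * (m + 1)) = g := by
        rw [show 2 * (m + 1) = orderOf g + 1 by omega, pow_succ, pow_orderOf_eq_one, one_mul]
      exact hq1 (by simpa [hg1] using hfix (m + 1))
  have hsq2 : q2 * q2 = q * q := by
    rw [hq2d, conj_mul, hsq1, h.central_zp_mul' hg (h.sq hq)]
  have hE2 : Nat.card E ≤ 2 * Nat.card H := by omega
  -- all squares outside the centre equal `q²`
  have hout : ∀ u ∈ E, u ∉ H → q1⁻¹ * u ∈ H := fun u hu huH =>
    diff_mem_of_card_le hHE hE2 hq1E hu hq1H huH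
  have hqq : q * q = 1 := by
    by_cases hyH : y ∈ H
    · rcases hHcases y hyH with hm | hm
      · exact absurd hm hyZ
      · rw [← h.sq_eq_of_coset' hq hm, hyy]
    · rcases hHcases _ (hout y hy hyH) with hm | hm
      · rw [← hsq1, ← h.sq_eq_of_coset' hq1E hm, hyy]
      · by_contra hne
        -- the third class contains `q2` or equals the class of `q1`
        rcases hHcases _ (hout q2 hq2E hq2H) with hm2 | hm2
        · have h' : g⁻¹ * g⁻¹⁻¹ = 1 := by group
          apply hq1
          apply hconj
          have : g * (q⁻¹ * q1) * g⁻¹ = q1⁻¹ * q2 := by rw [hq2d, hq1d]; group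
          rw [this]; exact hm2
        · have hyq2 : q2⁻¹ * y ∈ Subgroup.zpowers x := by
            have : q2⁻¹ * y = (q⁻¹ * (q1⁻¹ * q2))⁻¹ * (q⁻¹ * (q1⁻¹ * y)) := by group
            rw [this]; exact mul_mem (inv_mem hm2) hm
          apply hne
          rw [← hsq2, ← h.sq_eq_of_coset' hq2E hyq2, hyy]
  -- so `E` is commutative
  have hinv : ∀ {u : G}, u * u = 1 → u⁻¹ = u := fun hu => inv_eq_of_mul_eq_one_right hu
  rcases hHcases _ (hout q2 hq2E hq2H) with hm2 | hm2
  · apply hq1
    apply hconj
    have : g * (q⁻¹ * q1) * g⁻¹ = q1⁻¹ * q2 := by rw [hq2d, hq1d]; group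
    rw [this]; exact hm2
  · have hqq1 : (q1 * q) * (q1 * q) = 1 := by
      have h' : (q1 * q)⁻¹ * q2 ∈ Subgroup.zpowers x := by rwa [mul_inv_rev, mul_assoc]
      rw [← h.sq_eq_of_coset' (E.mul_mem hq1E hq) h', hsq2, hqq]
    have hqq1' : q1 * q = q * q1 := by
      have h' := hinv hqq1
      rw [mul_inv_rev, hinv hqq, hinv (hsq1.trans hqq)] at h'
      exact h'.symm
    -- everything commutes
    have hzc : ∀ u ∈ E, ∀ v ∈ E, u * v = v * u := by
      have hHC : ∀ u ∈ H, ∀ v ∈ ({q, q1} : Set G), u * v = v * u := by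
        intro u hu v hv
        have hvE : v ∈ E := by rcases hv with rfl | rfl <;> assumption
        have hqv : q * v = v * q := by
          rcases hv with rfl | rfl
          · rfl
          · exact hqq1'.symm
        rcases hHcases u hu with hm | hm
        · exact (h.x_central hvE hm).symm
        · have hu' : u = q * (q⁻¹ * u) := by group
          rw [hu']
          calc q * (q⁻¹ * u) * v = q * ((q⁻¹ * u) * v) := by group
            _ = q * (v * (q⁻¹ * u)) := by rw [h.x_central hvE hm]
            _ = (q * v) * (q⁻¹ * u) := by group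
            _ = (v * q) * (q⁻¹ * u) := by rw [hqv]
            _ = v * (q * (q⁻¹ * u)) := by group
      have hgen : ∀ v ∈ E, ∀ w, (∀ s ∈ Subgroup.zpowers x, w * s = s * w) → w * q = q * w → w * q1 = q1 * w →
          w * v = v * w := by
        intro v hv w hws hwq hwq1
        have hC : H ≤ Subgroup.centralizer ({w} : Set G) :=
          sup_le (fun s hs => Subgroup.mem_centralizer_singleton_iff.mpr (hws s hs).symm)
            (Subgroup.zpowers_le.mpr (Subgroup.mem_centralizer_singleton_iff.mpr hwq.symm))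
        by_cases hvH : v ∈ H
        · exact (Subgroup.mem_centralizer_singleton_iff.mp (hC hvH)).symm
        · have hv' : v = q1 * (q1⁻¹ * v) := by group
          rw [hv']
          exact (Subgroup.mem_centralizer_singleton_iff.mp
            ((Subgroup.centralizer ({w} : Set G)).mul_mem
              (Subgroup.mem_centralizer_singleton_iff.mpr hwq1.symm) (hC (hout v hv hvH)))).symm
      intro u hu v hv
      refine hgen v hv u (fun s hs => h.x_central hu hs) ?_ ?_
      · exact (hgen u hu q (fun s hs => h.x_central hq hs) rfl hqq1'.symm).symm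
      · exact (hgen u hu q1 (fun s hs => h.x_central hq1E hs) hqq1' rfl).symm
    exact absurd ((mem_zpowers_iff_pair h.xx q).mpr (h.cent q fun v hv => hzc v hv q hq)) hqZ

end SingPt

end Cfsg.Agent.H18
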