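import Mathlib
import Cfsg.Agent.H18.Singular.Small
import Cfsg.Agent.H18.Singular.Pair

/-! Symmetry of orthogonality of singular involutions. -/

set_option autoImplicit false

namespace Cfsg.Agent.H18

variable {G : Type*} [Group G] [Finite G] {F E : Subgroup G} {z x : G}

/-- **Symmetry of orthogonality**, for extraspecial groups of order more than 8. -/
theorem SingPt.symm_of_conj_big (hF : SingPt F z) (hE : SingPt E x) (hbig : 8 < Nat.card F) {g : G}
    (hgz : g * z * g⁻¹ = x) (hgF : ∀ q : G, q ∈ F ↔ g * q * g⁻¹ ∈ E) (hxF : x ∈ F) : z ∈ E := by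
  by_contra hzE
  have hEF : E = F.map (MulAut.conj g).toMonoidHom := by
    ext v
    rw [Subgroup.mem_map]
    constructor
    · intro hv
      refine ⟨g⁻¹ * v * g, ?_, by simp [mul_assoc]⟩
      rw [hgF]
      simpa [mul_assoc] using hv
    · rintro ⟨q, hq, rfl⟩
      exact (hgF q).mp hq
  have hcard : Nat.card E = Nat.card F := by
    rw [hEF, Subgroup.card_map_of_injective (MulAut.conj g).injective]
  have h : SingPair F z E x := ⟨hF, hE, hxF, hzE, hcard⟩
  exact absurd (h.card_le_of_conj hgz fun q hq => (hgF q).mp hq) (by omega)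

/-- **Symmetry of orthogonality**: if a conjugate `x = g z g⁻¹` of `z` lies in `Q_z`, then `z` lies in `Q_x`. -/
theorem SingPt.symm_of_conj (hF : SingPt F z) (hE : SingPt E x) (hcore : HasCore E x) {g : G} (hgz : g * z * g⁻¹ = x)
    (hgF : ∀ q : G, q ∈ F ↔ g * q * g⁻¹ ∈ E) (hxF : x ∈ F) : z ∈ E := by
  by_contra hzE
  have hEF : E = F.map (MulAut.conj g).toMonoidHom := by
    ext v
    rw [Subgroup.mem_map]
    constructor
    · intro hv
      refine ⟨g⁻¹ * v * g, ?_, by simp [mul_assoc]⟩
      rw [hgF]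
      simpa [mul_assoc] using hv
    · rintro ⟨q, hq, rfl⟩
      exact (hgF q).mp hq
  have hcard : Nat.card E = Nat.card F := by
    rw [hEF, Subgroup.card_map_of_injective (MulAut.conj g).injective]
  have h : SingPair F z E x := ⟨hF, hE, hxF, hzE, hcard⟩
  have h8 := h.card_le_of_conj hgz fun q hq => (hgF q).mp hq
  apply hzE
  set y := g * x * g⁻¹ with hy
  have hyE : y ∈ E := (hgF x).mp hxF
  have hyy : y * y = 1 := by rw [hy, conj_mul, hE.xx]; simp
  have hyZ : y ∉ Subgroup.zpowers x := by
    intro hm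
    rcases hE.pair hm with he | he
    · exact hE.xne (conj_eq_one_iff.mp he)
    · exact h.x_ne_z (mul_left_cancel (mul_right_cancel (he.trans hgz.symm)))
  set C := Subgroup.centralizer ({x} : Set G)
  have hC2 : IsPGroup 2 ↥C := by
    intro k
    obtain ⟨v, m, hm, hord⟩ := Nat.exists_eq_two_pow_mul_odd (n := orderOf (k : G)) (orderOf_pos _).ne'
    refine ⟨v, Subtype.ext ?_⟩
    push_cast
    have hk : (k : G) * x = x * k := Subgroup.mem_centralizer_singleton_iff.mp k.2
    have hgodd : Odd (orderOf ((k : G) ^ 2 ^ v)) := by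
      have hgord : orderOf ((k : G) ^ 2 ^ v) = m := by
        rw [orderOf_pow_of_dvd (by positivity) ⟨m, hord⟩, hord]
        exact Nat.mul_div_cancel_left m (by positivity)
      rw [hgord]; exact hm
    have hmem := hE.odd_centralizes (hcard ▸ h8) hyE hyy hyZ
      (Commute.pow_left (hk : Commute (k : G) x) _).eq hgodd
    rw [← orderOf_eq_one_iff]
    refine Nat.eq_one_of_dvd_coprimes ((Nat.coprime_two_left.mpr hgodd).pow_left 2)
      (orderOf_dvd_of_pow_eq_one ?_) (dvd_refl _)
    rw [show ((k : G) ^ 2 ^ v) ^ 2 ^ 2 = (k : G) ^ 2 ^ v * (k : G) ^ 2 ^ v * ((k : G) ^ 2 ^ v * (k : G) ^ 2 ^ v) by group]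
    rcases hE.pair (hE.sq hmem) with he | he <;> simp [he, hE.xx]
  exact hcore C (fun k hk => Subgroup.mem_centralizer_singleton_iff.mp hk) hC2
    (fun a ha k hk => C.mul_mem (C.mul_mem (Subgroup.mem_centralizer_singleton_iff.mpr ha) hk)
      (C.inv_mem (Subgroup.mem_centralizer_singleton_iff.mpr ha)))
    (Subgroup.mem_centralizer_singleton_iff.mpr h.zx)

end Cfsg.Agent.H18
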