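import Mathlib
import Cfsg.Agent.H18.PCore
import Cfsg.Agent.H18.Singular.Basic
import Cfsg.Agent.H18.Singular.Util

/-! Singular points from `Q x = O₂(C(x))`, and subgroups all of whose involutions are pairwise orthogonal. -/

set_option autoImplicit false

namespace Cfsg.Agent.H18

variable {G : Type*} [Group G] [Finite G]

/-- The base singular point. -/
lemma singPt_of_pCore (z : G) (hz : orderOf z = 2) (F : Subgroup G)
    (hF : F = (Cfsg.pCore 2 ↥(Subgroup.centralizer ({z} : Set G))).map (Subgroup.centralizer ({z} : Set G)).subtype)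
    (hE : Cfsg.IsExtraspecial 2 ↥F) (hC : Subgroup.centralizer (F : Set G) ≤ F) :
    SingPt F z ∧ HasCore F z := by
  haveI : Fact (Nat.Prime 2) := ⟨Nat.prime_two⟩
  have hzz : z * z = 1 := by rw [← pow_two, ← hz, pow_orderOf_eq_one]
  have hz1 : z ≠ 1 := fun h => by rw [h, orderOf_one] at hz; omega
  have hFC : ∀ q ∈ F, q * z = z * q := by
    intro q hq
    rw [hF] at hq
    obtain ⟨q', -, rfl⟩ := hq
    exact Subgroup.mem_centralizer_singleton_iff.mp q'.2
  have hcore : ∀ K : Subgroup G, (∀ k ∈ K, k * z = z * k) → IsPGroup 2 ↥K →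
      (∀ a : G, a * z = z * a → ∀ k ∈ K, a * k * a⁻¹ ∈ K) → K ≤ F := by
    intro K hK1 hK2 hK3 k hk
    have hKC : K ≤ Subgroup.centralizer ({z} : Set G) :=
      fun k hk => Subgroup.mem_centralizer_singleton_iff.mpr (hK1 k hk)
    have hn : (K.subgroupOf (Subgroup.centralizer ({z} : Set G))).Normal :=
      ⟨fun n hn a => hK3 a (Subgroup.mem_centralizer_singleton_iff.mp a.2) n hn⟩
    rw [hF]
    exact ⟨⟨k, hKC hk⟩, le_pCore hn (hK2.of_equiv (Subgroup.subgroupOfEquivOfLe hKC).symm) hk, rfl⟩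
  have hzF : z ∈ F := by
    refine hcore (Subgroup.zpowers z) ?_ ?_ ?_ (Subgroup.mem_zpowers z)
    · intro k hk
      rcases (mem_zpowers_iff_pair hzz k).mp hk with rfl | rfl <;> simp
    · exact IsPGroup.of_card (n := 1) (by rw [Nat.card_zpowers, hz, pow_one])
    · intro a ha k hk
      rcases (mem_zpowers_iff_pair hzz k).mp hk with rfl | rfl
      · simp
      · rw [ha, mul_inv_cancel_right]; exact Subgroup.mem_zpowers _
  refine ⟨⟨hzz, hz1, hzF, hE, fun y hy => ?_, hFC, ?_⟩, hcore⟩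
  · have hyF : y ∈ F := hC (Subgroup.mem_centralizer_iff.mpr hy)
    obtain ⟨w, hw1, -, hmem⟩ := center_eq_pair hE
    have hzc : (⟨z, hzF⟩ : ↥F) ∈ Subgroup.center ↥F :=
      Subgroup.mem_center_iff.mpr fun v => Subtype.ext (hFC v v.2)
    have hyc : (⟨y, hyF⟩ : ↥F) ∈ Subgroup.center ↥F :=
      Subgroup.mem_center_iff.mpr fun v => Subtype.ext (hy v v.2)
    have hzw := ((hmem _).mp hzc).resolve_left fun e => hz1 (congrArg Subtype.val e)
    rcases (hmem _).mp hyc with e | e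
    · exact Or.inl (congrArg Subtype.val e)
    · exact Or.inr (congrArg Subtype.val (e.trans hzw.symm))
  · intro a ha q hq
    rw [hF] at hq ⊢
    obtain ⟨q', hq', rfl⟩ := hq
    exact ⟨⟨a, Subgroup.mem_centralizer_singleton_iff.mpr ha⟩ * q' *
      (⟨a, Subgroup.mem_centralizer_singleton_iff.mpr ha⟩)⁻¹, (pCore_normal 2).conj_mem _ hq' _, rfl⟩

omit [Finite G] in
/-- Conjugates of singular points are singular points. -/
lemma SingPt.conj {F : Subgroup G} {z : G} (h : SingPt F z) (g : G) :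
    SingPt (F.map (MulAut.conj g).toMonoidHom) (g * z * g⁻¹) := by
  have hmem : ∀ {q}, q ∈ F.map (MulAut.conj g).toMonoidHom ↔ g⁻¹ * q * g ∈ F := by
    intro q
    constructor
    · rintro ⟨p, hp, rfl⟩
      simpa [mul_assoc] using hp
    · intro hq
      exact ⟨_, hq, by simp [mul_assoc]⟩
  have hcm : ∀ {a : G}, a * (g * z * g⁻¹) = g * z * g⁻¹ * a → (g⁻¹ * a * g) * z = z * (g⁻¹ * a * g) := by
    intro a ha
    calc (g⁻¹ * a * g) * z = g⁻¹ * (a * (g * z * g⁻¹)) * g := by group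
      _ = g⁻¹ * ((g * z * g⁻¹) * a) * g := by rw [ha]
      _ = z * (g⁻¹ * a * g) := by group
  refine ⟨by rw [conj_mul, h.xx]; simp, fun e => h.xne (conj_eq_one_iff.mp e),
    hmem.mpr (by simpa [mul_assoc] using h.mem), ?_, fun y hy => ?_, fun q hq => ?_, fun a ha q hq => ?_⟩
  · set e := F.equivMapOfInjective (MulAut.conj g).toMonoidHom (MulAut.conj g).injective
    obtain ⟨⟨hp, hfr, hcom⟩, hcard⟩ := h.ext
    have hcen : (Subgroup.center ↥F).map e.toMonoidHom = Subgroup.center _ := by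
      ext v
      constructor
      · rintro ⟨u, hu, rfl⟩
        refine Subgroup.mem_center_iff.mpr fun w => ?_
        obtain ⟨w', rfl⟩ := e.surjective w
        exact (map_mul e _ _).symm.trans ((congrArg e (Subgroup.mem_center_iff.mp hu w')).trans (map_mul e _ _))
      · intro hv
        obtain ⟨u, rfl⟩ := e.surjective v
        refine ⟨u, Subgroup.mem_center_iff.mpr fun w => e.injective ?_, rfl⟩
        rw [map_mul, map_mul]
        exact Subgroup.mem_center_iff.mp hv (e w)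
    refine ⟨⟨hp.of_equiv e, ?_, ?_⟩, ?_⟩
    · rw [← hcen, ← hfr]
      apply le_antisymm
      · intro v hv
        obtain ⟨u, rfl⟩ := e.surjective v
        refine ⟨u, ?_, rfl⟩
        have := frattini_le_comap_frattini_of_surjective (φ := e.symm.toMonoidHom) e.symm.surjective hv
        have h' : e.symm (e u) ∈ frattini ↥F := this
        rwa [e.symm_apply_apply] at h'
      · rw [Subgroup.map_le_iff_le_comap]
        exact frattini_le_comap_frattini_of_surjective (φ := e.toMonoidHom) e.surjective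
    · rw [← hcen, ← hcom, commutator_def, commutator_def, Subgroup.map_commutator,
        Subgroup.map_top_of_surjective _ e.surjective]
    · rw [← hcen, Subgroup.card_map_of_injective e.injective, hcard]
  · rcases h.cent (g⁻¹ * y * g) (fun w hw => by
      have h1 := hy (g * w * g⁻¹) (hmem.mpr (by simpa [mul_assoc] using hw))
      calc w * (g⁻¹ * y * g) = g⁻¹ * ((g * w * g⁻¹) * y) * g := by group
        _ = g⁻¹ * (y * (g * w * g⁻¹)) * g := by rw [h1]
        _ = g⁻¹ * y * g * w := by group) with e | e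
    · refine Or.inl ?_
      calc y = g * (g⁻¹ * y * g) * g⁻¹ := by group
        _ = 1 := by rw [e]; group
    · exact Or.inr (by rw [← e]; group)
  · have h1 := h.comm_x _ (hmem.mp hq)
    calc q * (g * z * g⁻¹) = g * ((g⁻¹ * q * g) * z) * g⁻¹ := by group
      _ = g * (z * (g⁻¹ * q * g)) * g⁻¹ := by rw [h1]
      _ = g * z * g⁻¹ * q := by group
  · refine hmem.mpr ?_
    simpa [mul_assoc] using h.norm _ (hcm ha) _ (hmem.mp hq)

omit [Finite G] in
/-- The core property passes to conjugates. -/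
lemma HasCore.conj {F : Subgroup G} {z : G} (h : HasCore F z) (g : G) :
    HasCore (F.map (MulAut.conj g).toMonoidHom) (g * z * g⁻¹) := by
  intro K h1 h2 h3 k hk
  refine ⟨g⁻¹ * k * g, h (K.map (MulAut.conj g⁻¹).toMonoidHom) ?_ (h2.map _) ?_ ⟨k, hk, by simp⟩,
    by simp [mul_assoc]⟩
  · rintro _ ⟨u, hu, rfl⟩
    show g⁻¹ * u * g⁻¹⁻¹ * z = z * (g⁻¹ * u * g⁻¹⁻¹)
    calc g⁻¹ * u * g⁻¹⁻¹ * z = g⁻¹ * (u * (g * z * g⁻¹)) * g := by group
      _ = g⁻¹ * ((g * z * g⁻¹) * u) * g := by rw [h1 u hu]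
      _ = z * (g⁻¹ * u * g⁻¹⁻¹) := by group
  · rintro a ha _ ⟨u, hu, rfl⟩
    have ha' : (g * a * g⁻¹) * (g * z * g⁻¹) = g * z * g⁻¹ * (g * a * g⁻¹) := by rw [conj_mul, conj_mul, ha]
    exact ⟨_, h3 _ ha' u hu, by simp [mul_assoc]⟩

/-- Hypotheses shared by the statements on orthogonal singular subgroups. -/
structure SingFam (Q : G → Subgroup G) (U : Subgroup G) : Prop where
  pt : ∀ u ∈ U, u ≠ 1 → SingPt (Q u) u
  cov : ∀ g u : G, Q (g * u * g⁻¹) = (Q u).map (MulAut.conj g).toMonoidHom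
  orth : ∀ u ∈ U, ∀ v ∈ U, u ≠ 1 → v ≠ 1 → v ∈ Q u

/-- `Q (g u g⁻¹) = g (Q u) g⁻¹` for `Q x = O₂(C(x))`. -/
lemma pCoreCentralizer_conj (Q : G → Subgroup G)
    (hQ : ∀ x : G, Q x = (Cfsg.pCore 2 ↥(Subgroup.centralizer ({x} : Set G))).map (Subgroup.centralizer ({x} : Set G)).subtype)
    (g u : G) : Q (g * u * g⁻¹) = (Q u).map (MulAut.conj g).toMonoidHom := by
  haveI : Fact (Nat.Prime 2) := ⟨Nat.prime_two⟩
  have hle : ∀ g u : G, (Q u).map (MulAut.conj g).toMonoidHom ≤ Q (g * u * g⁻¹) := by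
    intro g u
    rintro _ ⟨k, hk, rfl⟩
    rw [hQ] at hk
    rw [hQ]
    obtain ⟨k', hk', rfl⟩ := hk
    have hconj : ∀ {a : G}, a ∈ Subgroup.centralizer ({u} : Set G) →
        g * a * g⁻¹ ∈ Subgroup.centralizer ({g * u * g⁻¹} : Set G) := by
      intro a ha
      rw [Subgroup.mem_centralizer_singleton_iff] at ha ⊢
      rw [conj_mul, conj_mul, ha]
    let φ : ↥(Subgroup.centralizer ({u} : Set G)) ≃* ↥(Subgroup.centralizer ({g * u * g⁻¹} : Set G)) :=
      { toFun := fun a => ⟨g * a * g⁻¹, hconj a.2⟩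
        invFun := fun a => ⟨g⁻¹ * a * g, by
          have := Subgroup.mem_centralizer_singleton_iff.mp a.2
          rw [Subgroup.mem_centralizer_singleton_iff]
          calc g⁻¹ * (a : G) * g * u = g⁻¹ * ((a : G) * (g * u * g⁻¹)) * g := by group
            _ = g⁻¹ * ((g * u * g⁻¹) * (a : G)) * g := by rw [this]
            _ = u * (g⁻¹ * (a : G) * g) := by group⟩
        left_inv := fun a => Subtype.ext (by simp [mul_assoc])
        right_inv := fun a => Subtype.ext (by simp [mul_assoc])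
        map_mul' := fun a b => Subtype.ext (by simp [mul_assoc]) }
    refine ⟨φ k', le_pCore ((pCore_normal 2).map φ.toMonoidHom φ.surjective)
      ((pCore_isPGroup 2).map φ.toMonoidHom) ⟨k', hk', rfl⟩, rfl⟩
  refine le_antisymm (fun q hq => ?_) (hle g u)
  refine ⟨g⁻¹ * q * g, ?_, by simp [mul_assoc]⟩
  have := hle g⁻¹ (g * u * g⁻¹) ⟨q, hq, rfl⟩
  simpa [mul_assoc] using this

lemma singFam_of_hyp (Q : G → Subgroup G)
    (hQ : ∀ x : G, Q x = (Cfsg.pCore 2 ↥(Subgroup.centralizer ({x} : Set G))).map (Subgroup.centralizer ({x} : Set G)).subtype)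
    (z : G) (hz : orderOf z = 2) (hE : Cfsg.IsExtraspecial 2 ↥(Q z))
    (hC : Subgroup.centralizer ((Q z : Subgroup G) : Set G) ≤ Q z)
    (U : Subgroup G) (hS : ∀ u ∈ U, u ≠ 1 → ∃ g : G, g * z * g⁻¹ = u)
    (hO : ∀ u ∈ U, ∀ v ∈ U, u ≠ 1 → v ≠ 1 → v ∈ Q u) : SingFam Q U := by
  refine ⟨fun u hu hu1 => ?_, pCoreCentralizer_conj Q hQ, hO⟩
  obtain ⟨g, rfl⟩ := hS u hu hu1
  rw [pCoreCentralizer_conj Q hQ g z]
  exact (singPt_of_pCore z hz (Q z) (hQ z) hE hC).1.conj g

namespace SingFam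

variable {Q : G → Subgroup G} {U : Subgroup G}

lemma U_le (hf : SingFam Q U) {u : G} (hu : u ∈ U) (hu1 : u ≠ 1) : U ≤ Q u := by
  intro v hv
  by_cases hv1 : v = 1
  · exact hv1 ▸ one_mem _
  · exact hf.orth u hu v hv hu1 hv1

/-- `Q u` normalizes `U`. -/
lemma conj_mem (hf : SingFam Q U) {u q v : G} (hu : u ∈ U) (hu1 : u ≠ 1) (hq : q ∈ Q u) (hv : v ∈ U) :
    q * v * q⁻¹ ∈ U := by
  have h1 := (hf.pt u hu hu1).comm hq (hf.U_le hu hu1 hv)
  have : q * v * q⁻¹ = (q * v * q⁻¹ * v⁻¹) * v := by group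
  rw [this]
  exact U.mul_mem (Subgroup.zpowers_le.mpr hu h1) hv

lemma le_normalizer (hf : SingFam Q U) {u : G} (hu : u ∈ U) (hu1 : u ≠ 1) :
    Q u ≤ Subgroup.normalizer (U : Set G) := by
  intro q hq
  rw [Subgroup.mem_normalizer_iff]
  refine fun v => ⟨fun hv => hf.conj_mem hu hu1 hq hv, fun hv => ?_⟩
  have := hf.conj_mem hu hu1 ((Q u).inv_mem hq) hv
  simpa [mul_assoc] using this

/-- The transvection with centre `u` and axis `H`. -/
lemma exists_transvection (hf : SingFam Q U) {u v : G} (hu : u ∈ U) (hu1 : u ≠ 1) (hv : v ∈ U)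
    {H : Subgroup G} (hH : H ≤ U) (huH : u ∈ H) (hvH : v ∉ H) :
    ∃ q ∈ Q u, (∀ w ∈ H, q * w * q⁻¹ = w) ∧ q * v * q⁻¹ = v * u := by
  have hp := hf.pt u hu hu1
  have hHE : H ≤ Q u := hH.trans (hf.U_le hu hu1)
  by_contra hcon
  push Not at hcon
  apply hvH
  rw [← hp.double H hHE huH]
  refine ⟨hf.U_le hu hu1 hv, fun q hq => ?_⟩
  rcases hp.pair (hp.comm hq.1 (hf.U_le hu hu1 hv)) with he | he
  · exact mul_inv_eq_iff_eq_mul.mp (mul_inv_eq_one.mp he)
  · exfalso
    apply hcon q hq.1 (fun w hw => by rw [(hq.2 w hw).symm, mul_inv_cancel_right])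
    rw [mul_inv_eq_iff_eq_mul] at he
    rw [he, hp.comm_x v (hf.U_le hu hu1 hv)]

/-- `LU` induces every automorphism of `U` extending the identity of `W`. -/
lemma exists_aut (hf : SingFam Q U) (hU2 : ∀ u ∈ U, u * u = 1) (LU : Subgroup G)
    (hLU : ∀ u ∈ U, u ≠ 1 → Q u ≤ LU) (φ : ↥U ≃* ↥U) :
    ∃ g ∈ LU, ∀ u : ↥U, g * (u : G) * g⁻¹ = ((φ u : ↥U) : G) := by
  have hcomm : ∀ a ∈ U, ∀ b ∈ U, a * b = b * a := fun a ha b hb =>
    mul_comm_of_involution (hU2 a ha) (hU2 b hb) (hU2 _ (U.mul_mem ha hb))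
  suffices h : ∀ k, ∀ φ : ↥U ≃* ↥U, ∀ W : Subgroup ↥U, (∀ w ∈ W, φ w = w) → Nat.card ↥U - Nat.card W = k →
      ∃ g ∈ LU, ∀ u : ↥U, g * (u : G) * g⁻¹ = ((φ u : ↥U) : G) from
    h _ φ ⊥ (fun w hw => by rw [Subgroup.mem_bot.mp hw]; exact map_one φ) rfl
  intro k
  induction k using Nat.strong_induction_on with
  | _ k ih =>
    intro φ W hW hk
    by_cases htop : W = ⊤
    · refine ⟨1, LU.one_mem, fun u => ?_⟩
      rw [hW u (htop ▸ Subgroup.mem_top u)]; simp
    obtain ⟨v, -, hvW⟩ := SetLike.exists_of_lt (lt_top_iff_ne_top.mpr htop)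
    have hWlt : Nat.card W < Nat.card (W ⊔ Subgroup.zpowers v : Subgroup ↥U) := by
      refine lt_of_le_of_ne (Nat.card_le_card_of_injective _ (Subgroup.inclusion_injective le_sup_left)) fun he => ?_
      have := Subgroup.eq_of_le_of_card_ge (le_sup_left : W ≤ W ⊔ Subgroup.zpowers v) he.ge
      exact hvW (this.symm ▸ Subgroup.mem_sup_right (Subgroup.mem_zpowers v))
    have hdec : Nat.card ↥U - Nat.card (W ⊔ Subgroup.zpowers v : Subgroup ↥U) < k := by
      have := Subgroup.card_le_card_group (W ⊔ Subgroup.zpowers v : Subgroup ↥U)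
      omega
    have hstep : ∀ ψ : ↥U ≃* ↥U, (∀ w ∈ W, ψ w = w) → ψ v = v →
        ∃ g ∈ LU, ∀ u : ↥U, g * (u : G) * g⁻¹ = ((ψ u : ↥U) : G) := by
      intro ψ hψ hψv
      refine ih _ hdec ψ _ (fun w hw => ?_) rfl
      have hle : W ⊔ Subgroup.zpowers v ≤ MonoidHom.eqLocus ψ.toMonoidHom (MonoidHom.id ↥U) :=
        sup_le hψ (Subgroup.zpowers_le.mpr hψv)
      exact hle hw
    by_cases hfix : φ v = v
    · exact hstep φ hW hfix
    set u : ↥U := v * φ v with hu
    have hvv : v * v = 1 := Subtype.ext (hU2 v v.2)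
    have hu1 : (u : G) ≠ 1 := by
      intro he
      have : v * φ v = 1 := Subtype.ext he
      exact hfix (by rw [eq_inv_of_mul_eq_one_right this, inv_eq_of_mul_eq_one_right hvv])
    have hvK : v ∉ W ⊔ Subgroup.zpowers u := by
      intro hm
      have hcl : W ⊔ Subgroup.zpowers u ≤ subgroupOfMulClosed {w | w ∈ W ∨ u * w ∈ W}
          (Or.inl W.one_mem) (by
            have huu : u * u = 1 := Subtype.ext (hU2 u u.2)
            have hcu : ∀ a b : ↥U, a * b = b * a := fun a b => Subtype.ext (hcomm a a.2 b b.2)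
            rintro a (ha | ha) b (hb | hb)
            · exact Or.inl (W.mul_mem ha hb)
            · right; rw [hcu a b, ← mul_assoc]; exact W.mul_mem hb ha
            · right; rw [← mul_assoc]; exact W.mul_mem ha hb
            · left
              have : a * b = (u * a) * (u * b) := by
                rw [hcu u a, mul_assoc, ← mul_assoc u u, huu, one_mul]
              rw [this]; exact W.mul_mem ha hb) :=
        sup_le (fun w hw => Or.inl hw) (Subgroup.zpowers_le.mpr (Or.inr (by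
          have huu : u * u = 1 := Subtype.ext (hU2 u u.2)
          exact huu.symm ▸ W.one_mem)))
      rcases hcl hm with h1 | h1
      · exact hvW h1
      · apply hvW
        have h2 : φ v ∈ W := by
          have : u * v = φ v := by
            rw [hu]
            apply Subtype.ext
            show (v : G) * (φ v : G) * v = φ v
            rw [hcomm v v.2 _ (φ v).2, mul_assoc, hU2 v v.2, mul_one]
          rwa [this] at h1
        have h3 := hW _ h2
        rwa [φ.injective h3] at h2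
    obtain ⟨H, hKH, hvH⟩ : ∃ H : Subgroup ↥U, W ⊔ Subgroup.zpowers u ≤ H ∧ v ∉ H :=
      ⟨_, le_rfl, hvK⟩
    obtain ⟨q, hq, hqH, hqv⟩ := hf.exists_transvection u.2 hu1 v.2
      (Subgroup.map_subtype_le H) ⟨u, hKH (Subgroup.mem_sup_right (Subgroup.mem_zpowers u)), rfl⟩
      (fun ⟨w, hw, he⟩ => hvH ((Subtype.ext he : w = v) ▸ hw))
    have hqinv : ∀ w ∈ U, q⁻¹ * w * q ∈ U := by
      intro w hw
      simpa using hf.conj_mem u.2 hu1 ((Q (u : G)).inv_mem hq) hw
    let τ : ↥U ≃* ↥U :=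
      { toFun := fun w => ⟨q * w * q⁻¹, hf.conj_mem u.2 hu1 hq w.2⟩
        invFun := fun w => ⟨q⁻¹ * w * q, hqinv w w.2⟩
        left_inv := fun w => Subtype.ext (by simp [mul_assoc])
        right_inv := fun w => Subtype.ext (by simp [mul_assoc])
        map_mul' := fun a b => Subtype.ext (by simp [mul_assoc]) }
    have hτu : τ u = u := Subtype.ext (by
      show q * (u : G) * q⁻¹ = u
      exact hqH u ⟨u, hKH (Subgroup.mem_sup_right (Subgroup.mem_zpowers u)), rfl⟩)
    have hτv : τ (φ v) = v := by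
      have hφ : φ v = v * u := by rw [hu, ← mul_assoc, hvv, one_mul]
      rw [hφ, map_mul, hτu]
      apply Subtype.ext
      show q * (v : G) * q⁻¹ * u = v
      rw [hqv, mul_assoc, hU2 u u.2, mul_one]
    obtain ⟨g, hg, hgψ⟩ := hstep (φ.trans τ) (fun w hw => by
      show τ (φ w) = w
      rw [hW w hw]
      exact Subtype.ext (hqH w ⟨w, hKH (Subgroup.mem_sup_left hw), rfl⟩)) hτv
    refine ⟨q⁻¹ * g, LU.mul_mem (LU.inv_mem (hLU u u.2 hu1 hq)) hg, fun w => ?_⟩
    have h1 : g * (w : G) * g⁻¹ = q * (φ w : G) * q⁻¹ := hgψ w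
    calc q⁻¹ * g * (w : G) * (q⁻¹ * g)⁻¹ = q⁻¹ * (g * (w : G) * g⁻¹) * q := by group
      _ = (φ w : G) := by rw [h1]; group
where
  mul_comm_of_involution {a b : G} (ha : a * a = 1) (hb : b * b = 1) (hab : a * b * (a * b) = 1) :
      a * b = b * a := by
    have h := inv_eq_of_mul_eq_one_right hab
    rw [mul_inv_rev, inv_eq_of_mul_eq_one_right ha, inv_eq_of_mul_eq_one_right hb] at h
    exact h.symm

end SingFam

end Cfsg.Agent.H18
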